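import Cfsg.Agent.Spor.Rua.R.D0

set_option autoImplicit false
set_option maxRecDepth 100000000
set_option Elab.async false

namespace Cfsg.Agent.Spor.Rua.R

theorem ff3 : U.fixFrom 12 4060 7 = true := by decide +kernel

theorem ff4 : U.fixFrom 12 4060 1 = true := by decide +kernel

theorem ff5 : U.fixFrom 12 4060 9 = true := by decide +kernel

theorem ff6 : U.fixFrom 12 4060 3 = true := by decide +kernel

theorem ff7 : U.fixFrom 12 4060 5 = true := by decide +kernel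

theorem gr8 : sub (ones 4060) (U.growI W1 [0, 1, 3, 4, 4, 3, 2, 1, 0, 3, 4, 4, 3, 2, 1, 0, 3, 4, 4, 3, 2, 1, 0, 1, 2, 3, 4, 4, 3, 2] (Nat.shiftLeft 1 0)) = true := by decide +kernel

theorem gr11 : sub M10 (U.growI W2 [0, 1, 2, 2, 1, 0, 1, 2, 2, 1, 0, 1, 2, 2, 1, 0, 1, 2, 2, 1, 0, 1, 2] (Nat.shiftLeft 1 1)) = true := by decide +kernel

theorem cl13 : band (U.closedW W2 M10) (sub (Nat.shiftLeft 1 1) M10) = true := by decide +kernel

theorem sz14 : sizeOk 12 M10 1755 = true := by decide +kernel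

theorem gr17 : sub M16 (U.growI W2 [0, 1, 2, 2, 1, 0, 1, 2, 2, 1, 0, 1, 2, 2, 1, 0, 1, 2] (Nat.shiftLeft 1 352)) = true := by decide +kernel

theorem cl19 : band (U.closedW W2 M16) (sub (Nat.shiftLeft 1 352) M16) = true := by decide +kernel

theorem sz20 : sizeOk 12 M16 2304 = true := by decide +kernel

theorem le22 : band (lall (lall (memL HZ)) W23) (U.closedW W23 (Nat.shiftLeft 1 1)) = true := by decide +kernel

theorem le24 : band (lall (lall (memL HZ)) W25) (U.closedW W25 (Nat.shiftLeft 1 352)) = true := by decide +kernel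

theorem sz27 : sizeOk 12 (Nat.shiftLeft 1 0) 1 = true := by decide +kernel

theorem sz29 : sizeOk 12 (Nat.shiftLeft 1 1) 1 = true := by decide +kernel

theorem gr30 : sub 0x36fc (U.growI W23 [0, 1, 1, 0, 0, 1, 1] (Nat.shiftLeft 1 2)) = true := by decide +kernel

theorem sz32 : sizeOk 12 0x36fc 10 = true := by decide +kernel

theorem gr34 : sub M33 (U.growI W23 [0, 1, 2, 2, 1, 0, 0, 1, 2, 2, 1, 0] (Nat.shiftLeft 1 8)) = true := by decide +kernel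

theorem sz36 : sizeOk 12 M33 80 = true := by decide +kernel

theorem gr38 : sub M37 (U.growI W23 [0, 1, 2, 2, 1, 0, 0, 1, 2, 2, 1, 0, 0, 1, 2, 1] (Nat.shiftLeft 1 28)) = true := by decide +kernel

theorem sz40 : sizeOk 12 M37 640 = true := by decide +kernel

theorem gr42 : sub M41 (U.growI W23 [0, 1, 2, 2, 1, 0, 0, 1, 2, 2, 1, 0, 0, 1, 2, 2] (Nat.shiftLeft 1 151)) = true := by decide +kernel

theorem sz44 : sizeOk 12 M41 1024 = true := by decide +kernel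

theorem gr46 : sub M45 (U.growI W23 [0, 1, 2, 2, 1, 0, 0, 1, 2, 2, 1, 0, 0, 1, 2, 2, 1] (Nat.shiftLeft 1 352)) = true := by decide +kernel

theorem sz48 : sizeOk 12 M45 1024 = true := by decide +kernel

theorem gr50 : sub M49 (U.growI W23 [0, 1, 2, 2, 1, 0, 0, 1, 2, 2, 1, 0, 0, 1, 2, 2] (Nat.shiftLeft 1 860)) = true := by decide +kernel

theorem sz52 : sizeOk 12 M49 1280 = true := by decide +kernel

theorem sz54 : sizeOk 12 (Nat.shiftLeft 1 0) 1 = true := by decide +kernel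

theorem sz56 : sizeOk 12 (Nat.shiftLeft 1 352) 1 = true := by decide +kernel

theorem gr58 : sub M57 (U.growI W25 [0, 1, 2, 2, 1, 0, 0, 1, 2, 2, 1, 0, 0, 1] (Nat.shiftLeft 1 383)) = true := by decide +kernel

theorem sz60 : sizeOk 12 M57 78 = true := by decide +kernel

theorem gr62 : sub M61 (U.growI W25 [0, 1, 2, 2, 1, 0, 0, 1, 2, 2, 1, 0, 0, 1] (Nat.shiftLeft 1 771)) = true := by decide +kernel

theorem sz64 : sizeOk 12 M61 300 = true := by decide +kernel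

theorem gr66 : sub M65 (U.growI W25 [0, 1, 2, 2, 1, 0, 0, 1, 2, 2, 1, 0, 0, 1] (Nat.shiftLeft 1 800)) = true := by decide +kernel

theorem sz68 : sizeOk 12 M65 300 = true := by decide +kernel

theorem gr70 : sub M69 (U.growI W25 [0, 1, 2, 2, 1, 0, 0, 1, 2, 2, 1, 0, 0, 1, 2, 2] (Nat.shiftLeft 1 491)) = true := by decide +kernel

theorem sz72 : sizeOk 12 M69 650 = true := by decide +kernel

theorem gr74 : sub M73 (U.growI W25 [1, 2, 2, 1, 0, 0, 1, 2, 2, 1, 0, 0, 1, 2, 2, 1, 0] (Nat.shiftLeft 1 1)) = true := by decide +kernel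

theorem sz76 : sizeOk 12 M73 780 = true := by decide +kernel

theorem gr78 : sub M77 (U.growI W25 [0, 1, 2, 2, 1, 0, 0, 1, 2, 2, 1, 0, 0, 1, 2, 2, 1] (Nat.shiftLeft 1 2)) = true := by decide +kernel

theorem sz80 : sizeOk 12 M77 975 = true := by decide +kernel

theorem gr82 : sub M81 (U.growI W25 [0, 1, 2, 2, 1, 0, 0, 1, 2, 2, 1, 0, 0, 1, 2, 2, 1] (Nat.shiftLeft 1 602)) = true := by decide +kernel

theorem sz84 : sizeOk 12 M81 975 = true := by decide +kernel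

theorem sd85 : U.sends [] 352 352 = true := by decide +kernel

theorem sd86 : U.sends [] 1 1 = true := by decide +kernel

theorem sd87 : U.sends [1] 860 352 = true := by decide +kernel

theorem sd88 : U.sends [1] 1 2 = true := by decide +kernel

theorem rw90 : U.rowOk GZ [7] M10 1 M89 = true := by decide +kernel

theorem rw92 : U.rowOk GZ [7, 1, 3, 1, 3, 1, 3, 1, 7] M10 352 M91 = true := by decide +kernel

theorem pt93 : Nat.beq (patM (ones 4060) [] []) (ones 4060) = true := by decide +kernel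

theorem sz94 : band (Nat.testBit (ones 4060) 0) (sizeOk 12 (ones 4060) 4060) = true := by decide +kernel

theorem pt98 : Nat.beq (patM (ones 4060) ML95 [2]) M97 = true := by decide +kernel

theorem sz99 : band (Nat.testBit M97 1) (sizeOk 12 M97 1755) = true := by decide +kernel

theorem pt103 : Nat.beq (patM (ones 4060) ML100 [6, 3, 1]) M102 = true := by decide +kernel

theorem sz104 : band (Nat.testBit M102 151) (sizeOk 12 M102 1024) = true := by decide +kernel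

theorem rw106 : U.rowOk GZ [7, 1, 3, 1, 3, 1, 3, 1] M10 151 M105 = true := by decide +kernel

theorem ct123 : wt112.cnt U GZ M10 M109 PL113 = true := by decide +kernel

theorem pt125 : Nat.beq (patM (ones 4060) ML107 [2, 10, 6]) M109 = true := by decide +kernel

theorem ct134 : wt129.cnt U GZ M10 M128 PL130 = true := by decide +kernel

theorem pt136 : Nat.beq (patM (ones 4060) ML126 [10, 14]) M128 = true := by decide +kernel

theorem pt140 : Nat.beq (patM (ones 4060) ML137 [4, 16, 13]) M139 = true := by decide +kernel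

theorem sz141 : band (Nat.testBit M139 72) (sizeOk 12 M139 20) = true := by decide +kernel

theorem rw143 : U.rowOk GZ [7, 1, 3, 1, 3, 1, 7] M10 72 M142 = true := by decide +kernel

theorem pt146 : Nat.beq (patM (ones 4060) ML144 [8, 10, 34, 2, 21]) (Nat.shiftLeft 1 3) = true := by decide +kernel

theorem rw148 : U.rowOk GZ [7, 1, 7] M10 3 M147 = true := by decide +kernel

theorem pt151 : Nat.beq (patM (ones 4060) ML149 [12, 0, 9, 20, 5, 33, 37, 18, 11]) (Nat.shiftLeft 1 1998) = true := by decide +kernel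

theorem rw153 : U.rowOk GZ [7, 1, 3, 1, 3, 1, 4, 1, 9, 3, 5] M10 1998 M152 = true := by decide +kernel

theorem pt156 : Nat.beq (patM (ones 4060) ML154 [24, 21, 2, 6, 10, 0]) (Nat.shiftLeft 1 980) = true := by decide +kernel

theorem rw158 : U.rowOk GZ [7, 1, 3, 1, 3, 1, 4, 9, 5, 3] M10 980 M157 = true := by decide +kernel

theorem pt161 : Nat.beq (patM (ones 4060) ML159 [16, 36, 23, 12, 2, 0]) (Nat.shiftLeft 1 1697) = true := by decide +kernel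

theorem rw163 : U.rowOk GZ [7, 1, 3, 1, 5, 4, 1, 4, 1, 9, 4] M10 1697 M162 = true := by decide +kernel

theorem pt166 : Nat.beq (patM (ones 4060) ML164 [16, 0, 10, 5, 25, 43]) (Nat.shiftLeft 1 3993) = true := by decide +kernel

theorem rw168 : U.rowOk GZ [7, 1, 3, 1, 3, 1, 4, 6, 1, 7, 1, 3, 3] M10 3993 M167 = true := by decide +kernel

theorem pt171 : Nat.beq (patM (ones 4060) ML169 [2, 8, 40, 44, 26, 23, 17, 7, 5]) (Nat.shiftLeft 1 1789) = true := by decide +kernel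

theorem rw173 : U.rowOk GZ [7, 1, 3, 1, 3, 1, 7, 4, 1, 7, 5] M10 1789 M172 = true := by decide +kernel

theorem pt176 : Nat.beq (patM (ones 4060) ML174 [2, 14, 18, 42, 29, 6, 1, 8, 11]) (Nat.shiftLeft 1 4053) = true := by decide +kernel

theorem rw178 : U.rowOk GZ [7, 1, 4, 1, 3, 1, 4, 1, 7, 1, 9, 4, 10] M10 4053 M177 = true := by decide +kernel

theorem pt181 : Nat.beq (patM (ones 4060) ML179 [24, 31, 10, 6, 0, 4, 17, 3, 9]) (Nat.shiftLeft 1 833) = true := by decide +kernel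

theorem rw183 : U.rowOk GZ [7, 1, 3, 1, 3, 1, 3, 1, 10, 4] M10 833 M182 = true := by decide +kernel

theorem pt186 : Nat.beq (patM (ones 4060) ML184 [26, 35, 10, 8, 4, 15, 3, 7, 13, 1]) (Nat.shiftLeft 1 1198) = true := by decide +kernel

theorem rw188 : U.rowOk GZ [7, 1, 3, 1, 4, 1, 3, 6, 9, 1] M10 1198 M187 = true := by decide +kernel

theorem pt191 : Nat.beq (patM (ones 4060) ML189 [36, 31, 10, 16, 6, 5, 2, 1, 35, 8, 21]) (Nat.shiftLeft 1 2501) = true := by decide +kernel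

theorem rw193 : U.rowOk GZ [7, 1, 4, 1, 3, 1, 3, 7, 1, 7, 1] M10 2501 M192 = true := by decide +kernel

theorem pt196 : Nat.beq (patM (ones 4060) ML194 [30, 37, 16, 18, 0, 9, 15, 13, 3]) (Nat.shiftLeft 1 1700) = true := by decide +kernel

theorem rw198 : U.rowOk GZ [7, 1, 3, 1, 4, 1, 4, 1, 4, 9, 3] M10 1700 M197 = true := by decide +kernel

theorem pt201 : Nat.beq (patM (ones 4060) ML199 [0, 18, 16, 10, 56, 29, 53, 9, 3, 5]) (Nat.shiftLeft 1 3337) = true := by decide +kernel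

theorem rw203 : U.rowOk GZ [7, 1, 3, 1, 4, 1, 3, 1, 10, 6, 4, 7] M10 3337 M202 = true := by decide +kernel

theorem pt206 : Nat.beq (patM (ones 4060) ML204 [2, 22, 12, 18, 54, 7, 15, 5, 21, 9]) (Nat.shiftLeft 1 1372) = true := by decide +kernel

theorem rw208 : U.rowOk GZ [7, 1, 4, 1, 3, 1, 4, 1, 7, 1] M10 1372 M207 = true := by decide +kernel

theorem pt211 : Nat.beq (patM (ones 4060) ML209 [4, 10, 12, 20, 56, 61, 33, 14, 7, 19]) (Nat.shiftLeft 1 2996) = true := by decide +kernel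

theorem rw213 : U.rowOk GZ [7, 1, 3, 1, 3, 1, 7, 3, 1, 7, 1, 3] M10 2996 M212 = true := by decide +kernel

theorem pt216 : Nat.beq (patM (ones 4060) ML214 [2, 26, 20, 24, 34, 10, 63, 13, 5, 1, 19]) (Nat.shiftLeft 1 2905) = true := by decide +kernel

theorem rw218 : U.rowOk GZ [7, 1, 3, 1, 3, 1, 3, 7, 1, 6, 7, 1] M10 2905 M217 = true := by decide +kernel

theorem pt221 : Nat.beq (patM (ones 4060) ML219 [48, 43, 46, 26, 25, 18, 29, 1]) (Nat.shiftLeft 1 4037) = true := by decide +kernel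

theorem rw223 : U.rowOk GZ [7, 1, 3, 1, 4, 1, 10, 4, 1, 7, 1, 4, 4] M10 4037 M222 = true := by decide +kernel

theorem sep226 : sepM ML224 (ones 4060) = true := by decide +kernel

theorem rel231 : U.rel 12 [1, 1] 0 12 = true := by decide +kernel

theorem uok5 : Net.okb 12 un5 = true := by decide +kernel

theorem rel232 : U.rel 12 [11, 1, 3, 3, 5, 4, 1] 0 12 = true := by decide +kernel

theorem rel233 : U.rel 12 [12, 6, 12, 6, 12, 6, 12, 6] 0 12 = true := by decide +kernel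

theorem rel234 : U.rel 12 [3, 6, 4, 4, 6, 12, 3, 3, 5, 4, 12, 6, 11, 5, 5, 11] 0 12 = true := by decide +kernel

theorem rel235 : U.rel 12 [6, 12, 6, 12, 12, 6, 11, 5, 11, 5, 5, 11] 0 12 = true := by decide +kernel

theorem rel236 : U.rel 12 [6, 12, 3, 6, 4, 4, 6, 12, 6, 12, 3, 3, 5, 4, 6, 12] 0 12 = true := by decide +kernel

theorem rel237 : U.rel 12 [3, 6, 4, 4, 3, 6, 4, 4, 6, 12, 5, 11, 6, 12, 12, 6] 0 12 = true := by decide +kernel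

theorem rel238 : U.rel 12 [3, 6, 4, 4, 3, 6, 4, 4, 3, 6, 4, 4, 3, 6, 4, 4] 0 12 = true := by decide +kernel

theorem rel239 : U.rel 12 [3, 6, 4, 4, 3, 6, 4, 4, 12, 6, 3, 6, 4, 4, 12, 6, 12, 6, 3, 6, 4, 4, 12, 6] 0 12 = true := by decide +kernel

theorem rel240 : U.rel 12 [3, 6, 4, 4, 12, 6, 3, 6, 4, 4, 12, 6, 3, 6, 4, 4, 12, 6, 3, 6, 4, 4, 12, 6] 0 12 = true := by decide +kernel

theorem rel241 : U.rel 12 [5, 5, 5, 12, 11, 5] 0 12 = true := by decide +kernel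

theorem rel242 : U.rel 12 [5, 3, 6, 4, 4, 6, 6, 12, 3, 3, 5, 4, 5, 11] 0 12 = true := by decide +kernel

theorem rel243 : U.rel 12 [5, 5, 3, 6, 4, 4, 11, 6, 5, 11, 11, 5, 5, 11, 3, 3, 5, 4] 0 12 = true := by decide +kernel

theorem rel244 : U.rel 12 [5, 12, 12, 12, 12, 6] 0 12 = true := by decide +kernel

theorem rel245 : U.rel 12 [3, 11, 4, 3, 6, 4, 4, 6, 12, 5, 3, 3, 5, 4] 0 12 = true := by decide +kernel

theorem rel246 : U.rel 12 [3, 5, 5, 3, 11, 5, 3, 3, 5, 4, 12] 0 12 = true := by decide +kernel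

theorem rel247 : U.rel 12 [3, 5, 11, 6, 4, 12, 3, 3, 5, 4, 6, 12, 12] 0 12 = true := by decide +kernel

theorem rel248 : U.rel 12 [3, 5, 4, 4, 1, 6, 1, 6, 4, 5, 3] 0 12 = true := by decide +kernel

theorem rel249 : U.rel 12 [1, 3, 1, 3, 1, 5, 4, 1, 4, 4, 1, 6, 3, 6, 1, 4, 1, 4, 1, 3, 5] 0 12 = true := by decide +kernel

theorem rel250 : U.rel 12 [1, 3, 5, 3, 3, 1, 4, 4, 6, 4, 1, 3, 5, 12, 4, 11, 3, 6, 4] 0 12 = true := by decide +kernel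

theorem uok6 : Net.okb 12 un6 = true := by decide +kernel

theorem rel251 : U.rel 12 [13, 1, 3, 3, 5, 4, 1] 0 12 = true := by decide +kernel

theorem uok7 : Net.okb 12 un7 = true := by decide +kernel

theorem rel252 : U.rel 12 [15, 4, 4, 6, 4] 0 12 = true := by decide +kernel

theorem uok8 : Net.okb 12 un8 = true := by decide +kernel

theorem rel254 : U.rel 12 [17, 16, 16, 14] 0 12 = true := by decide +kernel

theorem rel255 : U.rel 12 [6, 14, 17, 13, 5, 18] 0 12 = true := by decide +kernel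

theorem rel256 : U.rel 12 [14, 6, 17, 17, 5, 13, 18, 18] 0 12 = true := by decide +kernel

theorem rel257 : U.rel 12 [17, 17, 17, 17] 0 12 = true := by decide +kernel

theorem rel258 : U.rel 12 [6, 14, 6, 14, 14, 6, 6, 14, 6, 14, 5, 13] 0 12 = true := by decide +kernel

theorem rel259 : U.rel 12 [6, 14, 6, 14, 6, 14, 6, 14] 0 12 = true := by decide +kernel

theorem rel260 : U.rel 12 [6, 14, 14, 6, 17, 14, 6, 14, 6, 6, 14, 5, 13, 17] 0 12 = true := by decide +kernel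

theorem rel261 : U.rel 12 [14, 6, 14, 6, 14, 6, 14, 6] 0 12 = true := by decide +kernel

theorem rel262 : U.rel 12 [6, 14, 14, 6, 6, 14, 14, 6, 6, 14, 14, 6, 6, 14, 14, 6] 0 12 = true := by decide +kernel

theorem rel263 : U.rel 12 [5, 16, 5, 16] 0 12 = true := by decide +kernel

theorem rel264 : U.rel 12 [5, 16, 6, 16, 18, 18, 5, 13, 5, 13] 0 12 = true := by decide +kernel

theorem rel265 : U.rel 12 [13, 16, 5, 15, 14, 18, 6, 14, 5, 13, 13, 5] 0 12 = true := by decide +kernel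

theorem rel266 : U.rel 12 [5, 5, 5, 14, 13, 5] 0 12 = true := by decide +kernel

theorem rel267 : U.rel 12 [5, 14, 14, 14, 14, 6] 0 12 = true := by decide +kernel

theorem rel268 : U.rel 12 [5, 15, 14, 15, 14, 18, 6, 14] 0 12 = true := by decide +kernel

theorem sz270 : sizeOk 12 (Nat.shiftLeft 1 1) 1 = true := by decide +kernel

theorem gr271 : sub 0xc (U.growI W253 [2] (Nat.shiftLeft 1 2)) = true := by decide +kernel

theorem sz273 : sizeOk 12 0xc 2 = true := by decide +kernel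

theorem gr274 : sub 0x36f0 (U.growI W253 [0, 2, 2, 1, 0] (Nat.shiftLeft 1 4)) = true := by decide +kernel

theorem sz276 : sizeOk 12 0x36f0 8 = true := by decide +kernel

theorem gr278 : sub M277 (U.growI W253 [0, 1, 2, 2, 1, 0, 1] (Nat.shiftLeft 1 8)) = true := by decide +kernel

theorem sz280 : sizeOk 12 M277 16 = true := by decide +kernel

theorem gr282 : sub M281 (U.growI W253 [0, 1, 2, 2, 1, 0, 0, 1, 2, 2, 1] (Nat.shiftLeft 1 16)) = true := by decide +kernel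

theorem sz284 : sizeOk 12 M281 64 = true := by decide +kernel

theorem gr286 : sub M285 (U.growI W253 [0, 1, 2, 2, 1, 0, 0, 1, 2, 2, 1, 0] (Nat.shiftLeft 1 28)) = true := by decide +kernel

theorem sz288 : sizeOk 12 M285 128 = true := by decide +kernel

theorem gr290 : sub M289 (U.growI W253 [0, 1, 2, 2, 1, 0, 0, 1, 2, 2, 1, 0, 0, 1, 2] (Nat.shiftLeft 1 73)) = true := by decide +kernel

theorem sz292 : sizeOk 12 M289 512 = true := by decide +kernel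

theorem gr294 : sub M293 (U.growI W253 [0, 1, 2, 2, 1, 0, 0, 1, 2, 2, 1, 0, 0, 1, 2, 2, 1] (Nat.shiftLeft 1 151)) = true := by decide +kernel

theorem sz296 : sizeOk 12 M293 1024 = true := by decide +kernel

theorem rel300 : U.rel 12 [4, 4, 2, 3, 3, 6, 6, 4, 4, 2, 4, 2, 3, 3, 6, 6, 4, 4, 2, 2, 3, 3, 2, 6, 4, 6, 2, 3, 1, 5, 3, 5, 1, 4, 4, 1] 0 12 = true := by decide +kernel

theorem rel301 : U.rel 12 [3, 2, 3, 3, 2, 6, 4, 6, 2, 1, 3, 3, 5, 5, 4, 4, 1, 3, 1, 3, 3, 5, 5, 4, 4, 1, 3, 1, 5, 3, 5, 1, 4, 4, 1] 0 12 = true := by decide +kernel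

theorem rel302 : U.rel 12 [4, 4, 2, 6, 2, 4, 4, 5, 4, 5, 3, 6, 3, 6, 3, 3, 1, 5, 1] 0 12 = true := by decide +kernel

theorem rel303 : U.rel 12 [3, 3, 1, 3, 3, 5, 5, 4, 4, 1, 3, 1, 3, 3, 5, 5, 4, 4, 1, 3, 2, 6, 2, 4, 4, 5, 4, 5, 1, 3, 3, 5, 5, 4, 4, 1, 3, 1, 3, 3, 5, 5, 4, 4, 1, 3, 6, 3, 6, 3, 3, 1, 5, 1] 0 12 = true := by decide +kernel

theorem rel304 : U.rel 12 [4, 4, 2, 4, 4, 2, 1, 3, 3, 1, 3, 3] 0 12 = true := by decide +kernel

theorem rel305 : U.rel 12 [1, 3, 3, 1, 3, 3, 1, 3, 3, 1, 3, 3, 1, 3, 3, 1, 3, 3, 4, 2, 6, 3, 3, 2, 3, 2, 6, 4, 2, 6, 1, 3, 3, 5, 1, 3, 5, 1, 4, 1, 4, 4, 5, 1, 3] 0 12 = true := by decide +kernel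

theorem rel306 : U.rel 12 [3, 3, 3, 3, 3] 0 12 = true := by decide +kernel

theorem rel307 : U.rel 12 [1, 3, 3, 5, 5, 4, 4, 1, 3, 1, 3, 3, 5, 5, 4, 4, 1, 3, 1, 3, 3, 5, 5, 4, 4, 1, 3, 1, 3, 3, 5, 5, 4, 4, 1, 3, 1, 3, 3, 5, 5, 4, 4, 1, 3, 1, 3, 3, 5, 5, 4, 4, 1, 3, 1, 3, 3, 5, 5, 4, 4, 1, 3, 1, 3, 3, 5, 5, 4, 4, 1, 3, 1, 3, 3, 5, 5, 4, 4, 1, 3, 1, 3, 3, 5, 5, 4, 4, 1, 3] 0 12 = true := by decide +kernel

theorem rel308 : U.rel 12 [4, 2, 3, 3, 6, 6, 4, 4, 2, 4, 2, 3, 3, 6, 6, 4, 4, 2, 4, 1, 3, 3, 5, 5, 4, 4, 1, 3, 1, 3, 3, 5, 5, 4, 4, 1, 3, 3] 0 12 = true := by decide +kernel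

theorem rel309 : U.rel 12 [1, 3, 3, 1, 3, 3, 1, 3, 3, 1, 3, 3, 1, 3, 3, 1, 3, 3, 1, 3, 3, 1, 3, 3, 1, 3, 3, 1, 3, 3, 1, 3, 3, 1, 3, 3, 1, 3, 3] 0 12 = true := by decide +kernel

theorem gr311 : sub M10 (U.growI W310 [0, 1, 2, 2, 1, 0, 0, 1, 2, 2, 1, 0, 0, 1, 2, 2, 1, 0, 0, 1] (Nat.shiftLeft 1 1)) = true := by decide +kernel

theorem gr314 : sub M10 (U.growI W313 [0, 1, 2, 2, 1, 0, 0, 1, 2, 2, 1, 0, 0, 1, 2, 2, 1, 0, 0, 1, 2] (Nat.shiftLeft 1 1)) = true := by decide +kernel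

theorem gr317 : sub M10 (U.growI W316 [0, 1, 2, 2, 1, 0, 0, 1, 2, 2, 1, 0, 0, 1, 2, 2, 1, 0, 0] (Nat.shiftLeft 1 1)) = true := by decide +kernel

theorem gr320 : sub M10 (U.growI W319 [0, 1, 2, 2, 1, 0, 0, 1, 2, 2, 1, 0, 0, 1, 2, 2, 1, 0] (Nat.shiftLeft 1 1)) = true := by decide +kernel

theorem gr323 : sub M10 (U.growI W322 [0, 1, 2, 2, 1, 0, 0, 1, 2, 2, 1, 0, 0, 1, 2, 2, 1, 0] (Nat.shiftLeft 1 1)) = true := by decide +kernel

theorem gr326 : sub M10 (U.growI W325 [0, 1, 2, 2, 1, 0, 0, 1, 2, 2, 1, 0, 0, 1, 2, 2, 1, 0, 0] (Nat.shiftLeft 1 1)) = true := by decide +kernel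

theorem gr329 : sub M10 (U.growI W328 [0, 1, 2, 2, 1, 0, 0, 1, 2, 2, 1, 0, 0, 1, 2, 2, 1, 0] (Nat.shiftLeft 1 1)) = true := by decide +kernel

theorem gr332 : sub M10 (U.growI W331 [0, 1, 2, 2, 1, 0, 0, 1, 2, 2, 1, 0, 0, 1, 2, 2, 1, 0] (Nat.shiftLeft 1 1)) = true := by decide +kernel

theorem gr335 : sub M10 (U.growI W334 [0, 1, 2, 2, 1, 0, 0, 1, 2, 2, 1, 0, 0, 1, 2, 2, 1, 0, 0, 1, 2] (Nat.shiftLeft 1 1)) = true := by decide +kernel

theorem gr338 : sub M10 (U.growI W337 [0, 1, 2, 2, 1, 0, 0, 1, 2, 2, 1, 0, 0, 1, 2, 2, 1, 0, 0] (Nat.shiftLeft 1 1)) = true := by decide +kernel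

theorem gr341 : sub M10 (U.growI W340 [0, 1, 2, 2, 1, 0, 0, 1, 2, 2, 1, 0, 0, 1, 2, 2, 1, 0, 0] (Nat.shiftLeft 1 1)) = true := by decide +kernel

theorem gr344 : sub M10 (U.growI W343 [0, 1, 2, 2, 1, 0, 0, 1, 2, 2, 1, 0, 0, 1, 2, 2, 1, 0, 0] (Nat.shiftLeft 1 1)) = true := by decide +kernel

theorem gr347 : sub M10 (U.growI W346 [0, 1, 2, 2, 1, 0, 0, 1, 2, 2, 1, 0, 0, 1, 2, 2, 1, 0, 0, 1] (Nat.shiftLeft 1 1)) = true := by decide +kernel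

theorem gr350 : sub M10 (U.growI W349 [0, 1, 2, 2, 1, 0, 0, 1, 2, 2, 1, 0, 0, 1, 2, 2, 1, 0] (Nat.shiftLeft 1 1)) = true := by decide +kernel

theorem gr353 : sub M10 (U.growI W352 [0, 1, 2, 2, 1, 0, 0, 1, 2, 2, 1, 0, 0, 1, 2, 2, 1, 0] (Nat.shiftLeft 1 1)) = true := by decide +kernel

theorem gr356 : sub M10 (U.growI W355 [0, 1, 2, 2, 1, 0, 0, 1, 2, 2, 1, 0, 0, 1, 2, 2, 1, 0, 0, 1] (Nat.shiftLeft 1 1)) = true := by decide +kernel

theorem gr359 : sub M10 (U.growI W358 [0, 1, 2, 2, 1, 0, 0, 1, 2, 2, 1, 0, 0, 1, 2, 2, 1, 0, 0, 1] (Nat.shiftLeft 1 1)) = true := by decide +kernel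

theorem gr362 : sub M10 (U.growI W361 [0, 1, 2, 2, 1, 0, 0, 1, 2, 2, 1, 0, 0, 1, 2, 2, 1, 0, 0] (Nat.shiftLeft 1 1)) = true := by decide +kernel

theorem gr365 : sub M10 (U.growI W364 [0, 1, 2, 2, 1, 0, 0, 1, 2, 2, 1, 0, 0, 1, 2, 2, 1, 0] (Nat.shiftLeft 1 1)) = true := by decide +kernel

theorem gr368 : sub M10 (U.growI W367 [0, 1, 2, 2, 1, 0, 0, 1, 2, 2, 1, 0, 0, 1, 2, 2, 1, 0, 0] (Nat.shiftLeft 1 1)) = true := by decide +kernel

theorem gr371 : sub M10 (U.growI W370 [0, 1, 2, 2, 1, 0, 0, 1, 2, 2, 1, 0, 0, 1, 2, 2, 1, 0, 0] (Nat.shiftLeft 1 1)) = true := by decide +kernel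

theorem gr374 : sub M10 (U.growI W373 [0, 1, 2, 2, 1, 0, 0, 1, 2, 2, 1, 0, 0, 1, 2, 2, 1, 0, 0, 1] (Nat.shiftLeft 1 1)) = true := by decide +kernel

theorem gr377 : sub M10 (U.growI W376 [0, 1, 2, 2, 1, 0, 0, 1, 2, 2, 1, 0, 0, 1, 2, 2, 1, 0, 0, 1] (Nat.shiftLeft 1 1)) = true := by decide +kernel

theorem gr380 : sub M10 (U.growI W379 [0, 1, 2, 2, 1, 0, 0, 1, 2, 2, 1, 0, 0, 1, 2, 2, 1, 0, 0] (Nat.shiftLeft 1 1)) = true := by decide +kernel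

theorem gr383 : sub M10 (U.growI W382 [0, 1, 2, 2, 1, 0, 0, 1, 2, 2, 1, 0, 0, 1, 2, 2, 1, 0] (Nat.shiftLeft 1 1)) = true := by decide +kernel

theorem gr386 : sub M10 (U.growI W385 [0, 1, 2, 2, 1, 0, 0, 1, 2, 2, 1, 0, 0, 1, 2, 2, 1, 0, 0] (Nat.shiftLeft 1 1)) = true := by decide +kernel

theorem gr389 : sub M10 (U.growI W388 [0, 1, 2, 2, 1, 0, 0, 1, 2, 2, 1, 0, 0, 1, 2, 2, 1, 0] (Nat.shiftLeft 1 1)) = true := by decide +kernel

theorem gr392 : sub M10 (U.growI W391 [0, 1, 2, 2, 1, 0, 0, 1, 2, 2, 1, 0, 0, 1, 2, 2, 1, 0, 0] (Nat.shiftLeft 1 1)) = true := by decide +kernel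

theorem gr395 : sub M10 (U.growI W394 [0, 1, 2, 2, 1, 0, 0, 1, 2, 2, 1, 0, 0, 1, 2, 2, 1, 0, 0] (Nat.shiftLeft 1 1)) = true := by decide +kernel

theorem gr398 : sub M10 (U.growI W397 [0, 1, 2, 2, 1, 0, 0, 1, 2, 2, 1, 0, 0, 1, 2, 2, 1, 0, 0] (Nat.shiftLeft 1 1)) = true := by decide +kernel

theorem gr401 : sub M10 (U.growI W400 [0, 1, 2, 2, 1, 0, 0, 1, 2, 2, 1, 0, 0, 1, 2, 2, 1, 0, 0, 1] (Nat.shiftLeft 1 1)) = true := by decide +kernel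

theorem gr404 : sub M10 (U.growI W403 [0, 1, 2, 2, 1, 0, 0, 1, 2, 2, 1, 0, 0, 1, 2, 2, 1, 0, 0] (Nat.shiftLeft 1 1)) = true := by decide +kernel

theorem gr407 : sub M10 (U.growI W406 [0, 1, 2, 2, 1, 0, 0, 1, 2, 2, 1, 0, 0, 1, 2, 2, 1, 0, 0, 1] (Nat.shiftLeft 1 1)) = true := by decide +kernel

theorem gr410 : sub M10 (U.growI W409 [0, 1, 2, 2, 1, 0, 0, 1, 2, 2, 1, 0, 0, 1, 2, 2, 1, 0, 0] (Nat.shiftLeft 1 1)) = true := by decide +kernel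

theorem gr413 : sub M10 (U.growI W412 [0, 1, 2, 2, 1, 0, 0, 1, 2, 2, 1, 0, 0, 1, 2, 2, 1, 0, 0] (Nat.shiftLeft 1 1)) = true := by decide +kernel

theorem gr416 : sub M10 (U.growI W415 [0, 1, 2, 2, 1, 0, 0, 1, 2, 2, 1, 0, 0, 1, 2, 2, 1, 0, 0] (Nat.shiftLeft 1 1)) = true := by decide +kernel

theorem gr419 : sub M10 (U.growI W418 [0, 1, 2, 2, 1, 0, 0, 1, 2, 2, 1, 0, 0, 1, 2, 2, 1, 0, 0, 1] (Nat.shiftLeft 1 1)) = true := by decide +kernel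

theorem gr422 : sub M10 (U.growI W421 [0, 1, 2, 2, 1, 0, 0, 1, 2, 2, 1, 0, 0, 1, 2, 2, 1, 0, 0, 1] (Nat.shiftLeft 1 1)) = true := by decide +kernel

theorem gr425 : sub M10 (U.growI W424 [0, 1, 2, 2, 1, 0, 0, 1, 2, 2, 1, 0, 0, 1, 2, 2, 1, 0] (Nat.shiftLeft 1 1)) = true := by decide +kernel

theorem gr428 : sub M10 (U.growI W427 [0, 1, 2, 2, 1, 0, 0, 1, 2, 2, 1, 0, 0, 1, 2, 2, 1, 0, 0] (Nat.shiftLeft 1 1)) = true := by decide +kernel

theorem gr431 : sub M10 (U.growI W430 [0, 1, 2, 2, 1, 0, 0, 1, 2, 2, 1, 0, 0, 1, 2, 2, 1, 0, 0] (Nat.shiftLeft 1 1)) = true := by decide +kernel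

theorem gr434 : sub M10 (U.growI W433 [0, 1, 2, 2, 1, 0, 0, 1, 2, 2, 1, 0, 0, 1, 2, 2, 1, 0] (Nat.shiftLeft 1 1)) = true := by decide +kernel

theorem gr437 : sub M10 (U.growI W436 [0, 1, 2, 2, 1, 0, 0, 1, 2, 2, 1, 0, 0, 1, 2, 2, 1, 0, 0, 1] (Nat.shiftLeft 1 1)) = true := by decide +kernel

theorem gr440 : sub M10 (U.growI W439 [0, 1, 2, 2, 1, 0, 0, 1, 2, 2, 1, 0, 0, 1, 2, 2, 1, 0, 0] (Nat.shiftLeft 1 1)) = true := by decide +kernel

theorem gr443 : sub M10 (U.growI W442 [0, 1, 2, 2, 1, 0, 0, 1, 2, 2, 1, 0, 0, 1, 2, 2, 1, 0, 0] (Nat.shiftLeft 1 1)) = true := by decide +kernel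

theorem gr446 : sub M10 (U.growI W445 [0, 1, 2, 2, 1, 0, 0, 1, 2, 2, 1, 0, 0, 1, 2, 2, 1, 0, 0, 1, 2] (Nat.shiftLeft 1 1)) = true := by decide +kernel

theorem gr449 : sub M10 (U.growI W448 [0, 1, 2, 2, 1, 0, 0, 1, 2, 2, 1, 0, 0, 1, 2, 2, 1, 0, 0] (Nat.shiftLeft 1 1)) = true := by decide +kernel

theorem gr452 : sub M10 (U.growI W451 [0, 1, 2, 2, 1, 0, 0, 1, 2, 2, 1, 0, 0, 1, 2, 2, 1, 0, 0] (Nat.shiftLeft 1 1)) = true := by decide +kernel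

theorem gr455 : sub M10 (U.growI W454 [0, 1, 2, 2, 1, 0, 0, 1, 2, 2, 1, 0, 0, 1, 2, 2, 1, 0, 0, 1] (Nat.shiftLeft 1 1)) = true := by decide +kernel

theorem gr458 : sub M10 (U.growI W457 [0, 1, 2, 2, 1, 0, 0, 1, 2, 2, 1, 0, 0, 1, 2, 2, 1, 0] (Nat.shiftLeft 1 1)) = true := by decide +kernel

theorem gr461 : sub M10 (U.growI W460 [0, 1, 2, 2, 1, 0, 0, 1, 2, 2, 1, 0, 0, 1, 2, 2, 1, 0, 0, 1] (Nat.shiftLeft 1 1)) = true := by decide +kernel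

theorem gr464 : sub M10 (U.growI W463 [0, 1, 2, 2, 1, 0, 0, 1, 2, 2, 1, 0, 0, 1, 2, 2, 1, 0, 0] (Nat.shiftLeft 1 1)) = true := by decide +kernel

theorem gr467 : sub M10 (U.growI W466 [0, 1, 2, 2, 1, 0, 0, 1, 2, 2, 1, 0, 0, 1, 2, 2, 1, 0, 0, 1] (Nat.shiftLeft 1 1)) = true := by decide +kernel

theorem gr470 : sub M10 (U.growI W469 [0, 1, 2, 2, 1, 0, 0, 1, 2, 2, 1, 0, 0, 1, 2, 2, 1, 0, 0] (Nat.shiftLeft 1 1)) = true := by decide +kernel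

theorem gr473 : sub M10 (U.growI W472 [0, 1, 2, 2, 1, 0, 0, 1, 2, 2, 1, 0, 0, 1, 2, 2, 1, 0, 0] (Nat.shiftLeft 1 1)) = true := by decide +kernel

theorem gr476 : sub M10 (U.growI W475 [0, 1, 2, 2, 1, 0, 0, 1, 2, 2, 1, 0, 0, 1, 2, 2, 1, 0, 0, 1] (Nat.shiftLeft 1 1)) = true := by decide +kernel

theorem gr479 : sub M10 (U.growI W478 [0, 1, 2, 2, 1, 0, 0, 1, 2, 2, 1, 0, 0, 1, 2, 2, 1, 0, 0] (Nat.shiftLeft 1 1)) = true := by decide +kernel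

theorem gr482 : sub M10 (U.growI W481 [0, 1, 2, 2, 1, 0, 0, 1, 2, 2, 1, 0, 0, 1, 2, 2, 1, 0] (Nat.shiftLeft 1 1)) = true := by decide +kernel

theorem gr485 : sub M10 (U.growI W484 [0, 1, 2, 2, 1, 0, 0, 1, 2, 2, 1, 0, 0, 1, 2, 2, 1, 0] (Nat.shiftLeft 1 1)) = true := by decide +kernel

theorem gr488 : sub M10 (U.growI W487 [0, 1, 2, 2, 1, 0, 0, 1, 2, 2, 1, 0, 0, 1, 2, 2, 1, 0] (Nat.shiftLeft 1 1)) = true := by decide +kernel

theorem gr491 : sub M10 (U.growI W490 [0, 1, 2, 2, 1, 0, 0, 1, 2, 2, 1, 0, 0, 1, 2, 2, 1, 0, 0] (Nat.shiftLeft 1 1)) = true := by decide +kernel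

theorem gr494 : sub M10 (U.growI W493 [0, 1, 2, 2, 1, 0, 0, 1, 2, 2, 1, 0, 0, 1, 2, 2, 1, 0] (Nat.shiftLeft 1 1)) = true := by decide +kernel

theorem gr497 : sub M10 (U.growI W496 [0, 1, 2, 2, 1, 0, 0, 1, 2, 2, 1, 0, 0, 1, 2, 2, 1, 0, 0] (Nat.shiftLeft 1 1)) = true := by decide +kernel

theorem gr500 : sub M10 (U.growI W499 [0, 1, 2, 2, 1, 0, 0, 1, 2, 2, 1, 0, 0, 1, 2, 2, 1, 0, 0, 1] (Nat.shiftLeft 1 1)) = true := by decide +kernel

theorem gr503 : sub M10 (U.growI W502 [0, 1, 2, 2, 1, 0, 0, 1, 2, 2, 1, 0, 0, 1, 2, 2, 1, 0, 0] (Nat.shiftLeft 1 1)) = true := by decide +kernel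

theorem gr506 : sub M10 (U.growI W505 [0, 1, 2, 2, 1, 0, 0, 1, 2, 2, 1, 0, 0, 1, 2, 2, 1, 0, 0] (Nat.shiftLeft 1 1)) = true := by decide +kernel

theorem gr509 : sub M10 (U.growI W508 [0, 1, 2, 2, 1, 0, 0, 1, 2, 2, 1, 0, 0, 1, 2, 2, 1, 0, 0, 1] (Nat.shiftLeft 1 1)) = true := by decide +kernel

theorem gr512 : sub M10 (U.growI W511 [0, 1, 2, 2, 1, 0, 0, 1, 2, 2, 1, 0, 0, 1, 2, 2, 1, 0, 0, 1] (Nat.shiftLeft 1 1)) = true := by decide +kernel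

theorem gr515 : sub M10 (U.growI W514 [0, 1, 2, 2, 1, 0, 0, 1, 2, 2, 1, 0, 0, 1, 2, 2, 1, 0, 0] (Nat.shiftLeft 1 1)) = true := by decide +kernel

theorem gr518 : sub M10 (U.growI W517 [0, 1, 2, 2, 1, 0, 0, 1, 2, 2, 1, 0, 0, 1, 2, 2, 1, 0, 0] (Nat.shiftLeft 1 1)) = true := by decide +kernel

theorem gr521 : sub M10 (U.growI W520 [0, 1, 2, 2, 1, 0, 0, 1, 2, 2, 1, 0, 0, 1, 2, 2, 1, 0] (Nat.shiftLeft 1 1)) = true := by decide +kernel

theorem gr524 : sub M10 (U.growI W523 [0, 1, 2, 2, 1, 0, 0, 1, 2, 2, 1, 0, 0, 1, 2, 2, 1, 0, 0] (Nat.shiftLeft 1 1)) = true := by decide +kernel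

theorem gr527 : sub M10 (U.growI W526 [0, 1, 2, 2, 1, 0, 0, 1, 2, 2, 1, 0, 0, 1, 2, 2, 1, 0, 0] (Nat.shiftLeft 1 1)) = true := by decide +kernel

theorem gr530 : sub M10 (U.growI W529 [0, 1, 2, 2, 1, 0, 0, 1, 2, 2, 1, 0, 0, 1, 2, 2, 1, 0, 0] (Nat.shiftLeft 1 1)) = true := by decide +kernel

theorem gr533 : sub M10 (U.growI W532 [0, 1, 2, 2, 1, 0, 0, 1, 2, 2, 1, 0, 0, 1, 2, 2, 1, 0] (Nat.shiftLeft 1 1)) = true := by decide +kernel

theorem gr536 : sub M10 (U.growI W535 [0, 1, 2, 2, 1, 0, 0, 1, 2, 2, 1, 0, 0, 1, 2, 2, 1, 0] (Nat.shiftLeft 1 1)) = true := by decide +kernel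

theorem gr539 : sub M10 (U.growI W538 [0, 1, 2, 2, 1, 0, 0, 1, 2, 2, 1, 0, 0, 1, 2, 2, 1, 0, 0, 1] (Nat.shiftLeft 1 1)) = true := by decide +kernel

theorem gr542 : sub M10 (U.growI W541 [0, 1, 2, 2, 1, 0, 0, 1, 2, 2, 1, 0, 0, 1, 2, 2, 1, 0, 0, 1, 2] (Nat.shiftLeft 1 1)) = true := by decide +kernel

theorem gr545 : sub M10 (U.growI W544 [0, 1, 2, 2, 1, 0, 0, 1, 2, 2, 1, 0, 0, 1, 2, 2, 1, 0, 0] (Nat.shiftLeft 1 1)) = true := by decide +kernel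

theorem gr548 : sub M10 (U.growI W547 [0, 1, 2, 2, 1, 0, 0, 1, 2, 2, 1, 0, 0, 1, 2, 2, 1, 0, 0, 1] (Nat.shiftLeft 1 1)) = true := by decide +kernel

theorem gr551 : sub M10 (U.growI W550 [0, 1, 2, 2, 1, 0, 0, 1, 2, 2, 1, 0, 0, 1, 2, 2, 1, 0, 0, 1] (Nat.shiftLeft 1 1)) = true := by decide +kernel

theorem gr554 : sub M10 (U.growI W553 [0, 1, 2, 2, 1, 0, 0, 1, 2, 2, 1, 0, 0, 1, 2, 2, 1, 0, 0] (Nat.shiftLeft 1 1)) = true := by decide +kernel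

theorem gr557 : sub M10 (U.growI W556 [0, 1, 2, 2, 1, 0, 0, 1, 2, 2, 1, 0, 0, 1, 2, 2, 1, 0, 0] (Nat.shiftLeft 1 1)) = true := by decide +kernel

theorem gr560 : sub M10 (U.growI W559 [0, 1, 2, 2, 1, 0, 0, 1, 2, 2, 1, 0, 0, 1, 2, 2, 1, 0] (Nat.shiftLeft 1 1)) = true := by decide +kernel

theorem gr563 : sub M10 (U.growI W562 [0, 1, 2, 2, 1, 0, 0, 1, 2, 2, 1, 0, 0, 1, 2, 2, 1, 0, 0] (Nat.shiftLeft 1 1)) = true := by decide +kernel

theorem gr566 : sub M10 (U.growI W565 [0, 1, 2, 2, 1, 0, 0, 1, 2, 2, 1, 0, 0, 1, 2, 2, 1, 0, 0, 1] (Nat.shiftLeft 1 1)) = true := by decide +kernel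

theorem gr569 : sub M10 (U.growI W568 [0, 1, 2, 2, 1, 0, 0, 1, 2, 2, 1, 0, 0, 1, 2, 2, 1, 0] (Nat.shiftLeft 1 1)) = true := by decide +kernel

theorem gr572 : sub M10 (U.growI W571 [0, 1, 2, 2, 1, 0, 0, 1, 2, 2, 1, 0, 0, 1, 2, 2, 1, 0, 0] (Nat.shiftLeft 1 1)) = true := by decide +kernel

theorem gr575 : sub M10 (U.growI W574 [0, 1, 2, 2, 1, 0, 0, 1, 2, 2, 1, 0, 0, 1, 2, 2, 1, 0] (Nat.shiftLeft 1 1)) = true := by decide +kernel

theorem gr578 : sub M10 (U.growI W577 [0, 1, 2, 2, 1, 0, 0, 1, 2, 2, 1, 0, 0, 1, 2, 2, 1, 0, 0] (Nat.shiftLeft 1 1)) = true := by decide +kernel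

theorem gr581 : sub M10 (U.growI W580 [0, 1, 2, 2, 1, 0, 0, 1, 2, 2, 1, 0, 0, 1, 2, 2, 1, 0, 0] (Nat.shiftLeft 1 1)) = true := by decide +kernel

theorem gr584 : sub M10 (U.growI W583 [0, 1, 2, 2, 1, 0, 0, 1, 2, 2, 1, 0, 0, 1, 2, 2, 1, 0, 0] (Nat.shiftLeft 1 1)) = true := by decide +kernel

theorem gr587 : sub M10 (U.growI W586 [0, 1, 2, 2, 1, 0, 0, 1, 2, 2, 1, 0, 0, 1, 2, 2, 1, 0, 0, 1] (Nat.shiftLeft 1 1)) = true := by decide +kernel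

theorem gr590 : sub M10 (U.growI W589 [0, 1, 2, 2, 1, 0, 0, 1, 2, 2, 1, 0, 0, 1, 2, 2, 1, 0, 0] (Nat.shiftLeft 1 1)) = true := by decide +kernel

theorem gr593 : sub M10 (U.growI W592 [0, 1, 2, 2, 1, 0, 0, 1, 2, 2, 1, 0, 0, 1, 2, 2, 1, 0, 0] (Nat.shiftLeft 1 1)) = true := by decide +kernel

theorem gr596 : sub M10 (U.growI W595 [0, 1, 2, 2, 1, 0, 0, 1, 2, 2, 1, 0, 0, 1, 2, 2, 1, 0, 0] (Nat.shiftLeft 1 1)) = true := by decide +kernel

theorem gr599 : sub M10 (U.growI W598 [0, 1, 2, 2, 1, 0, 0, 1, 2, 2, 1, 0, 0, 1, 2, 2, 1, 0] (Nat.shiftLeft 1 1)) = true := by decide +kernel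

theorem gr602 : sub M10 (U.growI W601 [0, 1, 2, 2, 1, 0, 0, 1, 2, 2, 1, 0, 0, 1, 2, 2, 1, 0] (Nat.shiftLeft 1 1)) = true := by decide +kernel

theorem sz606 : sizeOk 12 (Nat.shiftLeft 1 3163) 1 = true := by decide +kernel

theorem gr608 : sub M607 (U.growI W604 [0, 1, 2, 2, 1, 0, 0, 1, 2, 2, 1, 0] (Nat.shiftLeft 1 676)) = true := by decide +kernel

theorem sz610 : sizeOk 12 M607 78 = true := by decide +kernel

theorem gr612 : sub M611 (U.growI W604 [0, 1, 2, 2, 1, 0, 0, 1, 2, 2, 1, 0, 0, 1, 2] (Nat.shiftLeft 1 491)) = true := by decide +kernel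

theorem sz614 : sizeOk 12 M611 300 = true := by decide +kernel

theorem gr616 : sub M615 (U.growI W604 [0, 1, 2, 2, 1, 0, 0, 1, 2, 2, 1, 0, 0, 1] (Nat.shiftLeft 1 791)) = true := by decide +kernel

theorem sz618 : sizeOk 12 M615 300 = true := by decide +kernel

theorem gr620 : sub M619 (U.growI W604 [0, 1, 2, 2, 1, 0, 0, 1, 2, 2, 1, 0, 0, 1] (Nat.shiftLeft 1 383)) = true := by decide +kernel

theorem sz622 : sizeOk 12 M619 325 = true := by decide +kernel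

theorem gr624 : sub M623 (U.growI W604 [0, 1, 2, 2, 1, 0, 0, 1, 2, 2, 1, 0, 0, 1] (Nat.shiftLeft 1 620)) = true := by decide +kernel

theorem sz626 : sizeOk 12 M623 325 = true := by decide +kernel

theorem gr628 : sub M627 (U.growI W604 [0, 1, 2, 2, 1, 0, 0, 1, 2, 2, 1, 0, 0, 1, 2, 2, 1] (Nat.shiftLeft 1 352)) = true := by decide +kernel

theorem sz630 : sizeOk 12 M627 975 = true := by decide +kernel

theorem gr632 : sub M10 (U.growI W631 [0, 1, 2, 2, 1, 0, 0, 1, 2, 2, 1, 0, 0, 1, 2, 2, 1, 0, 0, 1] (Nat.shiftLeft 1 1)) = true := by decide +kernel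

theorem gr635 : sub M10 (U.growI W634 [0, 1, 2, 2, 1, 0, 0, 1, 2, 2, 1, 0, 0, 1, 2, 2, 1, 0, 0] (Nat.shiftLeft 1 1)) = true := by decide +kernel

theorem gr638 : sub M10 (U.growI W637 [0, 1, 2, 2, 1, 0, 0, 1, 2, 2, 1, 0, 0, 1, 2, 2, 1, 0, 0] (Nat.shiftLeft 1 1)) = true := by decide +kernel

end Cfsg.Agent.Spor.Rua.R
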