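import Cfsg.Agent.Spor.Prim
import Cfsg.Agent.Spor.Rua.Main
import Cfsg.Agent.Spor.Rua.R.C0
import Cfsg.Agent.Spor.R3E
import Cfsg.Agent.Spor.RuX.Main
import Cfsg.Agent.Spor.Rua.Grp
import Cfsg.Agent.Spor.P25.Main
import Cfsg.Agent.Spor.RuUa.Main
import Cfsg.Agent.Spor.RuUb.Main

set_option autoImplicit false
set_option maxRecDepth 100000000
set_option Elab.async false

namespace Cfsg.Agent.Spor.Rua.R

theorem hU : U.Ok 12 := U.ok_of 12 (show AllP (fun n => Net.okb 12 n = true) [n1, n3, n4, n0, n2, un5, un6, un7, un8] from AllP.cons ok1 (AllP.cons ok3 (AllP.cons ok4 (AllP.cons ok0 (AllP.cons ok2 (AllP.cons uok5 (AllP.cons uok6 (AllP.cons uok7 (AllP.cons uok8 (AllP.nil))))))))))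

theorem hfP : ∀ j < 5, U.fP [7, 1, 9, 3, 5] j = fP j := by
  intro j hj
  interval_cases j <;> rfl
theorem eG : gsub 5 fP = U.lsub W1 := (gsub_congr hfP).symm.trans (lsub_eq_gsub U [7, 1, 9, 3, 5])
theorem upz1 : ev (atm 5 fP) [2] = U.τ 1 := pz2
theorem upz3 : ev (atm 5 fP) [6] = U.τ 3 := pz4
theorem upz5 : ev (atm 5 fP) [8] = U.τ 5 := pz5
theorem upz7 : ev (atm 5 fP) [0] = U.τ 7 := pz1
theorem upz9 : ev (atm 5 fP) [4] = U.τ 9 := pz3
theorem eH : wsub 5 fP BW = U.lsub W2 :=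
  lsub_eq_of_all₂ (show List.Forall₂ _ [[2], [6], [8]] [[1], [3], [5]] from List.Forall₂.cons (upz1.trans (one_mul _).symm) (List.Forall₂.cons (upz3.trans (one_mul _).symm) (List.Forall₂.cons (upz5.trans (one_mul _).symm) (List.Forall₂.nil))))
theorem hfix : gsub 5 fP ≤ FixFrom 4060 := (gsub_congr hfP).symm.le.trans (hU.gsub_fix (gs := [7, 1, 9, 3, 5]) (AllP.cons ff3 (AllP.cons ff4 (AllP.cons ff5 (AllP.cons ff6 (AllP.cons ff7 (AllP.nil)))))))
theorem st : StL (U.lsub W1) [0] = (U.lsub W2) := by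
  have := cert.self.stL
  rwa [(Subgroup.range_subtype _).trans eG, (map_wsub_lift fP BW).trans eH] at this
theorem reach9 : Reach (U.lsub W1) 0 (ones 4060) := (Reach.grow hU (Reach.base _ 0) gr8)
theorem reach12 : Reach (U.lsub W2) 1 M10 := (Reach.grow hU (Reach.base _ 1) gr11)
theorem orb15 : (orbS (U.lsub W2) 1).ncard = 1755 := reach12.ncard hU cl13 sz14
theorem orb15e : orbS (U.lsub W2) 1 = {c | Nat.testBit M10 c = true} := reach12.orb hU cl13
theorem reach18 : Reach (U.lsub W2) 352 M16 := (Reach.grow hU (Reach.base _ 352) gr17)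
theorem orb21 : (orbS (U.lsub W2) 352).ncard = 2304 := reach18.ncard hU cl19 sz20
theorem orb21e : orbS (U.lsub W2) 352 = {c | Nat.testBit M16 c = true} := reach18.orb hU cl19
theorem rk : Rk3 (U.lsub W1) 4060 1 352 1755 2304 :=
  ⟨eG ▸ hfix, fun p hp => reach9 p (by rw [tb_ones]; exact decide_eq_true hp), by decide, by decide,
    st ▸ orb15, st ▸ orb21, by decide, by decide, by decide, by decide⟩
abbrev r : ℕ → ℕ → Prop := Adj (U.lsub W1) 1
theorem hG : ∀ z ∈ GZ, U.τ z ∈ AutG r 4060 := Tab.gz (le_autG rk.fix 1) (by decide +kernel)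
theorem hH : ∀ z ∈ HZ, U.τ z ∈ (U.lsub W2) := Tab.gz le_rfl (by decide +kernel)
theorem hA : (U.lsub W2) ≤ AutG r 4060 := st.ge.trans ((StL_le _ _).trans (le_autG rk.fix 1))
theorem row0 : IsRow r 0 M10 := fun q => adj_zero.trans (by rw [st, orb15e]; rfl)
theorem leb : U.lsub W23 ≤ StL (U.lsub W2) [1] := hU.le_stL hH le22
theorem lec : U.lsub W25 ≤ StL (U.lsub W2) [352] := hU.le_stL hH le24
theorem reach26 : Reach (U.lsub W23) 0 (Nat.shiftLeft 1 0) := (Reach.base _ 0)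
theorem reach28 : Reach (U.lsub W23) 1 (Nat.shiftLeft 1 1) := (Reach.base _ 1)
theorem reach31 : Reach (U.lsub W23) 2 0x36fc := (Reach.grow hU (Reach.base _ 2) gr30)
theorem reach35 : Reach (U.lsub W23) 8 M33 := (Reach.grow hU (Reach.base _ 8) gr34)
theorem reach39 : Reach (U.lsub W23) 28 M37 := (Reach.grow hU (Reach.base _ 28) gr38)
theorem reach43 : Reach (U.lsub W23) 151 M41 := (Reach.grow hU (Reach.base _ 151) gr42)
theorem reach47 : Reach (U.lsub W23) 352 M45 := (Reach.grow hU (Reach.base _ 352) gr46)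
theorem reach51 : Reach (U.lsub W23) 860 M49 := (Reach.grow hU (Reach.base _ 860) gr50)
noncomputable def Xb : List Cell := [(0, (Nat.shiftLeft 1 0), 1), (1, (Nat.shiftLeft 1 1), 1), (2, 0x36fc, 10), (8, M33, 80), (28, M37, 640), (151, M41, 1024), (352, M45, 1024), (860, M49, 1280)]
theorem Xbk : AllP (CellOk (U.lsub W23) 12) Xb :=
  show AllP _ [(0, (Nat.shiftLeft 1 0), 1), (1, (Nat.shiftLeft 1 1), 1), (2, 0x36fc, 10), (8, M33, 80), (28, M37, 640), (151, M41, 1024), (352, M45, 1024), (860, M49, 1280)] from AllP.cons ⟨reach26, sz27⟩ (AllP.cons ⟨reach28, sz29⟩ (AllP.cons ⟨reach31, sz32⟩ (AllP.cons ⟨reach35, sz36⟩ (AllP.cons ⟨reach39, sz40⟩ (AllP.cons ⟨reach43, sz44⟩ (AllP.cons ⟨reach47, sz48⟩ (AllP.cons ⟨reach51, sz52⟩ (AllP.nil))))))))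
theorem Xbp : partOk (ones 4060) Xb 0 = true := by decide +kernel
theorem reach53 : Reach (U.lsub W25) 0 (Nat.shiftLeft 1 0) := (Reach.base _ 0)
theorem reach55 : Reach (U.lsub W25) 352 (Nat.shiftLeft 1 352) := (Reach.base _ 352)
theorem reach59 : Reach (U.lsub W25) 383 M57 := (Reach.grow hU (Reach.base _ 383) gr58)
theorem reach63 : Reach (U.lsub W25) 771 M61 := (Reach.grow hU (Reach.base _ 771) gr62)
theorem reach67 : Reach (U.lsub W25) 800 M65 := (Reach.grow hU (Reach.base _ 800) gr66)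
theorem reach71 : Reach (U.lsub W25) 491 M69 := (Reach.grow hU (Reach.base _ 491) gr70)
theorem reach75 : Reach (U.lsub W25) 1 M73 := (Reach.grow hU (Reach.base _ 1) gr74)
theorem reach79 : Reach (U.lsub W25) 2 M77 := (Reach.grow hU (Reach.base _ 2) gr78)
theorem reach83 : Reach (U.lsub W25) 602 M81 := (Reach.grow hU (Reach.base _ 602) gr82)
noncomputable def Xc : List Cell := [(0, (Nat.shiftLeft 1 0), 1), (352, (Nat.shiftLeft 1 352), 1), (383, M57, 78), (771, M61, 300), (800, M65, 300), (491, M69, 650), (1, M73, 780), (2, M77, 975), (602, M81, 975)]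
theorem Xck : AllP (CellOk (U.lsub W25) 12) Xc :=
  show AllP _ [(0, (Nat.shiftLeft 1 0), 1), (352, (Nat.shiftLeft 1 352), 1), (383, M57, 78), (771, M61, 300), (800, M65, 300), (491, M69, 650), (1, M73, 780), (2, M77, 975), (602, M81, 975)] from AllP.cons ⟨reach53, sz54⟩ (AllP.cons ⟨reach55, sz56⟩ (AllP.cons ⟨reach59, sz60⟩ (AllP.cons ⟨reach63, sz64⟩ (AllP.cons ⟨reach67, sz68⟩ (AllP.cons ⟨reach71, sz72⟩ (AllP.cons ⟨reach75, sz76⟩ (AllP.cons ⟨reach79, sz80⟩ (AllP.cons ⟨reach83, sz84⟩ (AllP.nil)))))))))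
theorem Xcp : partOk (ones 4060) Xc 0 = true := by decide +kernel
theorem row1 : IsRow r 1 M89 := row0.word hU hG rw90
theorem row352 : IsRow r 352 M91 := row0.word hU hG rw92
set_option synthInstance.maxSize 100000 in
set_option synthInstance.maxHeartbeats 0 in
theorem key : ∀ x0 x1 x2 x3 x4 x5 x6 x7 : Fin 2,  1755 = 1 * x0.1 + (1 * x1.1 + (10 * x2.1 + (80 * x3.1 + (640 * x4.1 + (1024 * x5.1 + (1024 * x6.1 + (1280 * x7.1 + (0)))))))) → x0.1 = 1 → x1.1 = 0 →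
    ∀ y0 y1 y2 y3 y4 y5 y6 y7 y8 : Fin 2,  y0.1 = 0 → y1.1 = 0 → x6.1 = y6.1 → x7.1 = y7.1 →  1755 = 1 * y0.1 + (1 * y1.1 + (78 * y2.1 + (300 * y3.1 + (300 * y4.1 + (650 * y5.1 + (780 * y6.1 + (975 * y7.1 + (975 * y8.1 + (0))))))))) →
    [x0.1, x1.1, x2.1, x3.1, x4.1, x5.1, x6.1, x7.1, y0.1, y1.1, y2.1, y3.1, y4.1, y5.1, y6.1, y7.1, y8.1] = [1, 0, 1, 1, 1, 0, 1, 0, 0, 0, 0, 0, 0, 0, 1, 0, 1] := by decide +kernel
theorem graph {G : Subgroup (Equiv.Perm ℕ)} (h : Rk3 G 4060 1 352 1755 2304) (e' : StL G [0] = StL (U.lsub W1) [0]) :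
    G ≤ AutG r 4060 := by
  have e := e'.trans st
  have e1 := (h.val h.hb).symm.trans (ncard_cells Xbk Xbp (Rk3.inv e leb) (h.tb _))
  have e2 := (h.val h.hc).symm.trans (ncard_cells Xck Xcp (Rk3.inv e lec) (h.tb _))
  obtain ⟨i1, i2, i3, i4⟩ := h.ind0
  have k := key ⟨ind {q | Adj G 1 1 q} 0, Nat.lt_succ_of_le (ind_le _ _)⟩ ⟨ind {q | Adj G 1 1 q} 1, Nat.lt_succ_of_le (ind_le _ _)⟩ ⟨ind {q | Adj G 1 1 q} 2, Nat.lt_succ_of_le (ind_le _ _)⟩ ⟨ind {q | Adj G 1 1 q} 8, Nat.lt_succ_of_le (ind_le _ _)⟩ ⟨ind {q | Adj G 1 1 q} 28, Nat.lt_succ_of_le (ind_le _ _)⟩ ⟨ind {q | Adj G 1 1 q} 151, Nat.lt_succ_of_le (ind_le _ _)⟩ ⟨ind {q | Adj G 1 1 q} 352, Nat.lt_succ_of_le (ind_le _ _)⟩ ⟨ind {q | Adj G 1 1 q} 860, Nat.lt_succ_of_le (ind_le _ _)⟩ e1 i1 i2 ⟨ind {q | Adj G 1 352 q} 0, Nat.lt_succ_of_le (ind_le _ _)⟩ ⟨ind {q | Adj G 1 352 q} 352, Nat.lt_succ_of_le (ind_le _ _)⟩ ⟨ind {q | Adj G 1 352 q} 383, Nat.lt_succ_of_le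 (ind_le _ _)⟩ ⟨ind {q | Adj G 1 352 q} 771, Nat.lt_succ_of_le (ind_le _ _)⟩ ⟨ind {q | Adj G 1 352 q} 800, Nat.lt_succ_of_le (ind_le _ _)⟩ ⟨ind {q | Adj G 1 352 q} 491, Nat.lt_succ_of_le (ind_le _ _)⟩ ⟨ind {q | Adj G 1 352 q} 1, Nat.lt_succ_of_le (ind_le _ _)⟩ ⟨ind {q | Adj G 1 352 q} 2, Nat.lt_succ_of_le (ind_le _ _)⟩ ⟨ind {q | Adj G 1 352 q} 602, Nat.lt_succ_of_le (ind_le _ _)⟩ i3 i4
    (ind_congr (S := {q | Adj G 1 1 q}) (S' := {q | Adj G 1 352 q}) (q := 352) (q' := 1) (h.link (e.ge (Tab.evA_mem_gz (w := []) hH (by decide +kernel))) (hU.sends sd85) (hU.sends sd86)))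
    (ind_congr (S := {q | Adj G 1 1 q}) (S' := {q | Adj G 1 352 q}) (q := 860) (q' := 2) (h.link (e.ge (Tab.evA_mem_gz (w := [1]) hH (by decide +kernel))) (hU.sends sd87) (hU.sends sd88))) e2
  simp only [List.cons.injEq] at k
  obtain ⟨x0, x1, x2, x3, x4, x5, x6, x7, y0, y1, y2, y3, y4, y5, y6, y7, y8, -⟩ := k
  exact h.le_aut rk e' (fun q => (eq_of_cells Xbk Xbp (Rk3.inv e leb) (h.tb _) (R := M89)
    ⟨Or.inl ⟨x0, by decide +kernel⟩, Or.inr ⟨x1, by decide +kernel⟩, Or.inl ⟨x2, by decide +kernel⟩, Or.inl ⟨x3, by decide +kernel⟩, Or.inl ⟨x4, by decide +kernel⟩, Or.inr ⟨x5, by decide +kernel⟩, Or.inl ⟨x6, by decide +kernel⟩, Or.inr ⟨x7, by decide +kernel⟩, trivial⟩ (by decide +kernel) q).trans (row1 q).symm)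
    fun q => (eq_of_cells Xck Xcp (Rk3.inv e lec) (h.tb _) (R := M91)
    ⟨Or.inr ⟨y0, by decide +kernel⟩, Or.inr ⟨y1, by decide +kernel⟩, Or.inr ⟨y2, by decide +kernel⟩, Or.inr ⟨y3, by decide +kernel⟩, Or.inr ⟨y4, by decide +kernel⟩, Or.inr ⟨y5, by decide +kernel⟩, Or.inl ⟨y6, by decide +kernel⟩, Or.inr ⟨y7, by decide +kernel⟩, Or.inl ⟨y8, by decide +kernel⟩, trivial⟩ (by decide +kernel) q).trans (row352 q).symm
theorem iv96 : AllP (InvM (StL (AutG r 4060) [0])) ML95 := AllP.cons (invM_base _ _ _) (AllP.cons (row0.base _) (AllP.up (show AllP (InvM (StL (AutG r 4060) [])) [] from AllP.nil) _))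
theorem iv101 : AllP (InvM (StL (AutG r 4060) [1, 0])) ML100 := AllP.cons (invM_base _ _ _) (AllP.cons (row1.base _) (AllP.up iv96 _))
theorem row151 : IsRow r 151 M105 := row0.word hU hG rw106
theorem iv108 : AllP (InvM (StL (AutG r 4060) [151, 1, 0])) ML107 := AllP.cons (invM_base _ _ _) (AllP.cons (row151.base _) (AllP.up iv101 _))
theorem cnt124 : CntOk r M109 PL113 := WT.cnt_sound hU hG row0 ct123
theorem iv127 : AllP (InvM (StL (AutG r 4060) [151, 1, 0])) ML126 := AllP.app' (cnt124.inv (StL_le _ _) (invM_pat iv108 pt125)) iv108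
theorem cnt135 : CntOk r M128 PL130 := WT.cnt_sound hU hG row0 ct134
theorem iv138 : AllP (InvM (StL (AutG r 4060) [151, 1, 0])) ML137 := AllP.app' (cnt135.inv (StL_le _ _) (invM_pat iv127 pt136)) iv127
theorem row72 : IsRow r 72 M142 := row0.word hU hG rw143
theorem iv145 : AllP (InvM (StL (AutG r 4060) [72, 151, 1, 0])) ML144 := AllP.cons (invM_base _ _ _) (AllP.cons (row72.base _) (AllP.up iv138 _))
theorem row3 : IsRow r 3 M147 := row0.word hU hG rw148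
theorem iv150 : AllP (InvM (StL (AutG r 4060) [72, 151, 1, 0])) ML149 := AllP.cons (row3.pat iv145 pt146) iv145
theorem row1998 : IsRow r 1998 M152 := row0.word hU hG rw153
theorem iv155 : AllP (InvM (StL (AutG r 4060) [72, 151, 1, 0])) ML154 := AllP.cons (row1998.pat iv150 pt151) iv150
theorem row980 : IsRow r 980 M157 := row0.word hU hG rw158
theorem iv160 : AllP (InvM (StL (AutG r 4060) [72, 151, 1, 0])) ML159 := AllP.cons (row980.pat iv155 pt156) iv155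
theorem row1697 : IsRow r 1697 M162 := row0.word hU hG rw163
theorem iv165 : AllP (InvM (StL (AutG r 4060) [72, 151, 1, 0])) ML164 := AllP.cons (row1697.pat iv160 pt161) iv160
theorem row3993 : IsRow r 3993 M167 := row0.word hU hG rw168
theorem iv170 : AllP (InvM (StL (AutG r 4060) [72, 151, 1, 0])) ML169 := AllP.cons (row3993.pat iv165 pt166) iv165
theorem row1789 : IsRow r 1789 M172 := row0.word hU hG rw173
theorem iv175 : AllP (InvM (StL (AutG r 4060) [72, 151, 1, 0])) ML174 := AllP.cons (row1789.pat iv170 pt171) iv170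
theorem row4053 : IsRow r 4053 M177 := row0.word hU hG rw178
theorem iv180 : AllP (InvM (StL (AutG r 4060) [72, 151, 1, 0])) ML179 := AllP.cons (row4053.pat iv175 pt176) iv175
theorem row833 : IsRow r 833 M182 := row0.word hU hG rw183
theorem iv185 : AllP (InvM (StL (AutG r 4060) [72, 151, 1, 0])) ML184 := AllP.cons (row833.pat iv180 pt181) iv180
theorem row1198 : IsRow r 1198 M187 := row0.word hU hG rw188
theorem iv190 : AllP (InvM (StL (AutG r 4060) [72, 151, 1, 0])) ML189 := AllP.cons (row1198.pat iv185 pt186) iv185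
theorem row2501 : IsRow r 2501 M192 := row0.word hU hG rw193
theorem iv195 : AllP (InvM (StL (AutG r 4060) [72, 151, 1, 0])) ML194 := AllP.cons (row2501.pat iv190 pt191) iv190
theorem row1700 : IsRow r 1700 M197 := row0.word hU hG rw198
theorem iv200 : AllP (InvM (StL (AutG r 4060) [72, 151, 1, 0])) ML199 := AllP.cons (row1700.pat iv195 pt196) iv195
theorem row3337 : IsRow r 3337 M202 := row0.word hU hG rw203
theorem iv205 : AllP (InvM (StL (AutG r 4060) [72, 151, 1, 0])) ML204 := AllP.cons (row3337.pat iv200 pt201) iv200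
theorem row1372 : IsRow r 1372 M207 := row0.word hU hG rw208
theorem iv210 : AllP (InvM (StL (AutG r 4060) [72, 151, 1, 0])) ML209 := AllP.cons (row1372.pat iv205 pt206) iv205
theorem row2996 : IsRow r 2996 M212 := row0.word hU hG rw213
theorem iv215 : AllP (InvM (StL (AutG r 4060) [72, 151, 1, 0])) ML214 := AllP.cons (row2996.pat iv210 pt211) iv210
theorem row2905 : IsRow r 2905 M217 := row0.word hU hG rw218
theorem iv220 : AllP (InvM (StL (AutG r 4060) [72, 151, 1, 0])) ML219 := AllP.cons (row2905.pat iv215 pt216) iv215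
theorem row4037 : IsRow r 4037 M222 := row0.word hU hG rw223
theorem iv225 : AllP (InvM (StL (AutG r 4060) [72, 151, 1, 0])) ML224 := AllP.cons (row4037.pat iv220 pt221) iv220
theorem bd227 : Nat.card (StL (AutG r 4060) [151, 1, 0]) ≤ 20 := card_le_step (m := 1) (invM_pat iv138 pt140) sz141 (card_le_sep iv225 sep226)
theorem bd228 : Nat.card (StL (AutG r 4060) [1, 0]) ≤ 20480 := card_le_step (m := 20) (invM_pat iv101 pt103) sz104 bd227
theorem bd229 : Nat.card (StL (AutG r 4060) [0]) ≤ 35942400 := card_le_step (m := 20480) (invM_pat iv96 pt98) sz99 bd228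
theorem bd230 : Nat.card (StL (AutG r 4060) []) ≤ 145926144000 := card_le_step (m := 35942400) (invM_pat AllP.nil pt93) sz94 bd229
theorem autb : Nat.card (AutG r 4060) ≤ 145926144000 := StL_nil (AutG r 4060) ▸ bd230
noncomputable abbrev Γ : Subgroup (Equiv.Perm ℕ) := gsub 3 (U.fP [1, 3, 5])
theorem eΓ : Γ = (U.lsub W2) := lsub_eq_gsub U [1, 3, 5]
theorem hl : U.Link Γ.subtype (atm 3 (lift Γ (U.fP [1, 3, 5]))) (2 * 3) :=
  link_self U [1, 3, 5] 3 (by intro j hj; interval_cases j <;> rfl) (by decide +kernel)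
theorem isoH : Nonempty (Rub.P ≃* Γ) := equivH.elim fun e => ⟨e.trans ((Subgroup.equivMapOfInjective _ _
  P.subtype_injective).trans (MulEquiv.subgroupCongr ((map_wsub_lift fP BW).trans (eH.trans eΓ.symm))))⟩
theorem cardΓ : Nat.card Γ = 35942400 :=
  isoH.elim fun e => (Nat.card_congr e.toEquiv).symm.trans Rub.cardP
theorem cardH : Nat.card (U.lsub W2) = 35942400 := eΓ ▸ cardΓ
instance instFinH : Finite (U.lsub W2) := Nat.finite_of_card_ne_zero (by rw [cardH]; norm_num)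
instance instFinΓ : Finite Γ := eΓ ▸ instFinH
theorem presHsq : ∀ j < 1, j < 3 → U.fP [1, 3, 5] j * U.fP [1, 3, 5] j = 1 :=
  Tab.sq (show AllP (fun z => evA U.τ [z, z] = 1) [1] from AllP.cons (hU.one rel231) (AllP.nil)) 3 rfl
theorem presHiv : IvOk (2 * 1) (atm 3 (U.fP [1, 3, 5])) := ivOk_atm presHsq
theorem presHpz1 : PZ U (atm 3 (U.fP [1, 3, 5])) presHEX 1 := PZ.of_atom (y := 2 * 0) (by decide +kernel) (atm_two_mul _ (by decide))
theorem presHpz3 : PZ U (atm 3 (U.fP [1, 3, 5])) presHEX 3 := PZ.of_atom (y := 2 * 1) (by decide +kernel) (atm_two_mul _ (by decide))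
theorem presHpz4 : PZ U (atm 3 (U.fP [1, 3, 5])) presHEX 4 := PZ.of_inv presHiv presHpz3 (by decide +kernel)
theorem presHpz5 : PZ U (atm 3 (U.fP [1, 3, 5])) presHEX 5 := PZ.of_atom (y := 2 * 2) (by decide +kernel) (atm_two_mul _ (by decide))
theorem presHpz6 : PZ U (atm 3 (U.fP [1, 3, 5])) presHEX 6 := PZ.of_inv presHiv presHpz5 (by decide +kernel)
theorem presHpz11 : PZ U (atm 3 (U.fP [1, 3, 5])) presHEX 11 := PZ.of_def presHiv (d := [1, 3, 3, 5, 4, 1]) (AllP.cons presHpz1 (AllP.cons presHpz3 (AllP.cons presHpz3 (AllP.cons presHpz5 (AllP.cons presHpz4 (AllP.cons presHpz1 (AllP.nil))))))) (hU.one rel232) (by decide +kernel)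
theorem presHpz12 : PZ U (atm 3 (U.fP [1, 3, 5])) presHEX 12 := PZ.of_inv presHiv presHpz11 (by decide +kernel)
theorem presHPZ : AllP (PZ U (atm 3 (U.fP [1, 3, 5])) presHEX) [1, 3, 4, 5, 6, 11, 12] :=
  AllP.cons presHpz1 (AllP.cons presHpz3 (AllP.cons presHpz4 (AllP.cons presHpz5 (AllP.cons presHpz6 (AllP.cons presHpz11 (AllP.cons presHpz12 (AllP.nil)))))))
theorem presH : Pres 3 1 Rub.RL (U.fP [1, 3, 5]) :=
  ⟨presHsq, relAll_sound presHiv (W := [[12, 6, 12, 6, 12, 6, 12, 6], [3, 6, 4, 4, 6, 12, 3, 3, 5, 4, 12, 6, 11, 5, 5, 11], [6, 12, 6, 12, 12, 6, 11, 5, 11, 5, 5, 11], [6, 12, 3, 6, 4, 4, 6, 12, 6, 12, 3, 3, 5, 4, 6, 12], [3, 6, 4, 4, 3, 6, 4, 4, 6, 12, 5, 11, 6, 12, 12, 6], [3, 6, 4, 4, 3, 6, 4, 4, 3, 6, 4, 4, 3, 6, 4, 4], [3, 6, 4, 4, 3, 6, 4, 4, 12, 6, 3, 6, 4, 4, 12, 6, 12, 6, 3, 6, 4, 4, 12, 6], [3, 6, 4, 4, 12, 6, 3, 6, 4, 4, 12, 6, 3, 6, 4, 4, 12, 6, 3, 6, 4, 4, 12, 6], [5, 5, 5, 12, 11,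 5], [5, 3, 6, 4, 4, 6, 6, 12, 3, 3, 5, 4, 5, 11], [5, 5, 3, 6, 4, 4, 11, 6, 5, 11, 11, 5, 5, 11, 3, 3, 5, 4], [5, 12, 12, 12, 12, 6], [3, 11, 4, 3, 6, 4, 4, 6, 12, 5, 3, 3, 5, 4], [3, 5, 5, 3, 11, 5, 3, 3, 5, 4, 12], [3, 5, 11, 6, 4, 12, 3, 3, 5, 4, 6, 12, 12], [3, 5, 4, 4, 1, 6, 1, 6, 4, 5, 3], [1, 3, 1, 3, 1, 5, 4, 1, 4, 4, 1, 6, 3, 6, 1, 4, 1, 4, 1, 3, 5], [1, 3, 5, 3, 3, 1, 4, 4, 6, 4, 1, 3, 5, 12, 4, 11, 3, 6, 4]]) (rules := [⟨[12, 6, 12, 6, 12, 6, 12, 6], [], 0, true⟩, ⟨[3, 6, 4, 4, 6, 12, 3, 3, 5, 4, 12, 6, 11, 5, 5, 11], [], 1, true⟩, ⟨[6, 12, 6, 12, 12, 6, 11, 5, 11, 5, 5, 11], [], 2, true⟩, ⟨[6, 12, 3, 6, 4, 4, 6, 12, 6, 12, 3, 3, 5, 4, 6, 12], [], 3, true⟩, ⟨[3, 6, 4, 4, 3, 6, 4, 4, 6, 12, 5, 11, 6, 12, 12, 6], [], 4, true⟩, ⟨[3, 6, 4, 4, 3, 6, 4, 4, 3, 6, 4, 4, 3, 6, 4, 4], [], 5, true⟩, ⟨[3, 6, 4, 4, 3, 6, 4, 4, 12, 6, 3, 6, 4, 4, 12, 6, 12, 6, 3, 6, 4, 4, 12, 6], [], 6, true⟩, ⟨[3, 6, 4,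 4, 12, 6, 3, 6, 4, 4, 12, 6, 3, 6, 4, 4, 12, 6, 3, 6, 4, 4, 12, 6], [], 7, true⟩, ⟨[5, 5, 5, 12, 11, 5], [], 8, true⟩, ⟨[5, 3, 6, 4, 4, 6, 6, 12, 3, 3, 5, 4, 5, 11], [], 9, true⟩, ⟨[5, 5, 3, 6, 4, 4, 11, 6, 5, 11, 11, 5, 5, 11, 3, 3, 5, 4], [], 10, true⟩, ⟨[5, 12, 12, 12, 12, 6], [], 11, true⟩, ⟨[3, 11, 4, 3, 6, 4, 4, 6, 12, 5, 3, 3, 5, 4], [], 12, true⟩, ⟨[3, 5, 5, 3, 11, 5, 3, 3, 5, 4, 12], [], 13, true⟩, ⟨[3, 5, 11, 6, 4, 12, 3, 3, 5, 4, 6, 12, 12], [], 14, true⟩, ⟨[3, 5, 4, 4, 1, 6, 1, 6, 4, 5, 3], [], 15, true⟩, ⟨[1, 3, 1, 3, 1, 5, 4, 1, 4, 4, 1, 6, 3, 6, 1, 4, 1, 4, 1, 3, 5], [], 16, true⟩, ⟨[1, 3, 5, 3, 3, 1, 4, 4, 6, 4, 1, 3, 5, 12, 4, 11, 3, 6, 4], [], 17, true⟩]) presHPZ (AllP.cons (hU.one rel233) (AllP.cons (hU.one rel234) (AllP.cons (hU.one rel235) (AllP.cons (hU.one rel236) (AllP.cons (hU.one rel237) (AllP.cons (hU.one rel238) (AllP.cons (hU.one rel239) (AllP.cons (hU.one rel240) (AllP.cons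 (hU.one rel241) (AllP.cons (hU.one rel242) (AllP.cons (hU.one rel243) (AllP.cons (hU.one rel244) (AllP.cons (hU.one rel245) (AllP.cons (hU.one rel246) (AllP.cons (hU.one rel247) (AllP.cons (hU.one rel248) (AllP.cons (hU.one rel249) (AllP.cons (hU.one rel250) (AllP.nil))))))))))))))))))) (by decide +kernel)⟩
theorem presUsq : ∀ j < 0, j < 3 → U.fP [5, 13, 15] j * U.fP [5, 13, 15] j = 1 :=
  Tab.sq (show AllP (fun z => evA U.τ [z, z] = 1) [] from AllP.nil) 3 rfl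
theorem presUiv : IvOk (2 * 0) (atm 3 (U.fP [5, 13, 15])) := ivOk_atm presUsq
theorem presUpz5 : PZ U (atm 3 (U.fP [5, 13, 15])) presUEX 5 := PZ.of_atom (y := 2 * 0) (by decide +kernel) (atm_two_mul _ (by decide))
theorem presUpz6 : PZ U (atm 3 (U.fP [5, 13, 15])) presUEX 6 := PZ.of_inv presUiv presUpz5 (by decide +kernel)
theorem presUpz13 : PZ U (atm 3 (U.fP [5, 13, 15])) presUEX 13 := PZ.of_atom (y := 2 * 1) (by decide +kernel) (atm_two_mul _ (by decide))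
theorem presUpz14 : PZ U (atm 3 (U.fP [5, 13, 15])) presUEX 14 := PZ.of_inv presUiv presUpz13 (by decide +kernel)
theorem presUpz15 : PZ U (atm 3 (U.fP [5, 13, 15])) presUEX 15 := PZ.of_atom (y := 2 * 2) (by decide +kernel) (atm_two_mul _ (by decide))
theorem presUpz16 : PZ U (atm 3 (U.fP [5, 13, 15])) presUEX 16 := PZ.of_inv presUiv presUpz15 (by decide +kernel)
theorem presUpz17 : PZ U (atm 3 (U.fP [5, 13, 15])) presUEX 17 := PZ.of_def presUiv (d := [16, 16, 14]) (AllP.cons presUpz16 (AllP.cons presUpz16 (AllP.cons presUpz14 (AllP.nil)))) (hU.one rel254) (by decide +kernel)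
theorem presUpz18 : PZ U (atm 3 (U.fP [5, 13, 15])) presUEX 18 := PZ.of_inv presUiv presUpz17 (by decide +kernel)
theorem presUPZ : AllP (PZ U (atm 3 (U.fP [5, 13, 15])) presUEX) [5, 6, 13, 14, 15, 16, 17, 18] :=
  AllP.cons presUpz5 (AllP.cons presUpz6 (AllP.cons presUpz13 (AllP.cons presUpz14 (AllP.cons presUpz15 (AllP.cons presUpz16 (AllP.cons presUpz17 (AllP.cons presUpz18 (AllP.nil))))))))
theorem presU : Pres 3 0 RuUa.RL (U.fP [5, 13, 15]) :=
  ⟨presUsq, relAll_sound presUiv (W := [[6, 14, 17, 13, 5, 18], [14, 6, 17, 17, 5, 13, 18, 18], [17, 17, 17, 17], [6, 14, 6, 14, 14, 6, 6, 14, 6, 14, 5, 13], [6, 14, 6, 14, 6, 14, 6, 14], [6, 14, 14, 6, 17, 14, 6, 14, 6, 6, 14, 5, 13, 17], [14, 6, 14, 6, 14, 6, 14, 6], [6, 14, 14, 6, 6, 14, 14, 6, 6, 14, 14, 6, 6, 14, 14, 6], [5, 16, 5, 16], [5, 16, 6, 16, 18, 18, 5, 13, 5, 13], [13, 16, 5, 15, 14, 18, 6, 14, 5, 13, 13, 5], [5, 5, 5, 14, 13, 5], [5, 14, 14,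 14, 14, 6], [5, 15, 14, 15, 14, 18, 6, 14]]) (rules := [⟨[6, 14, 17, 13, 5, 18], [], 0, true⟩, ⟨[14, 6, 17, 17, 5, 13, 18, 18], [], 1, true⟩, ⟨[17, 17, 17, 17], [], 2, true⟩, ⟨[6, 14, 6, 14, 14, 6, 6, 14, 6, 14, 5, 13], [], 3, true⟩, ⟨[6, 14, 6, 14, 6, 14, 6, 14], [], 4, true⟩, ⟨[6, 14, 14, 6, 17, 14, 6, 14, 6, 6, 14, 5, 13, 17], [], 5, true⟩, ⟨[14, 6, 14, 6, 14, 6, 14, 6], [], 6, true⟩, ⟨[6, 14, 14, 6, 6, 14, 14, 6, 6, 14, 14, 6, 6, 14, 14, 6], [], 7, true⟩, ⟨[5, 16, 5, 16], [], 8, true⟩, ⟨[5, 16, 6, 16, 18, 18, 5, 13, 5, 13], [], 9, true⟩, ⟨[13, 16, 5, 15, 14, 18, 6, 14, 5, 13, 13, 5], [], 10, true⟩, ⟨[5, 5, 5, 14, 13, 5], [], 11, true⟩, ⟨[5, 14, 14, 14, 14, 6], [], 12, true⟩, ⟨[5, 15, 14, 15, 14, 18, 6, 14], [], 13, true⟩]) presUPZ (AllP.cons (hU.one rel255) (AllP.cons (hU.one rel256) (AllP.cons (hU.one rel257) (AllP.cons (hU.one rel258) (AllP.cons (hU.one rel259) (AllP.cons (hU.one rel260) (AllP.cons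 (hU.one rel261) (AllP.cons (hU.one rel262) (AllP.cons (hU.one rel263) (AllP.cons (hU.one rel264) (AllP.cons (hU.one rel265) (AllP.cons (hU.one rel266) (AllP.cons (hU.one rel267) (AllP.cons (hU.one rel268) (AllP.nil))))))))))))))) (by decide +kernel)⟩
theorem pU : IsPGroup 2 (U.lsub W253) := lsub_eq_gsub U [5, 13, 15] ▸ isPGroup_of_dvd (e := 12) Nat.prime_two
  ((show Bound 3 0 RuUa.RL (16 * (256)) from (RuUa.cert.bound' RuUb.cert.bound_nil (H := [([], 0, true), ([], 1, true), ([], 2, true), ([], 3, true), ([], 4, true), ([], 5, true), ([], 6, true), ([], 7, true), ([], 8, true), ([], 9, true), ([], 10, true), ([], 11, true), ([], 12, true), ([], 13, true)]) (H' := [([], 0, true), ([], 1, true), ([], 2, true), ([], 3, true), ([], 4, true), ([], 5, true), ([], 6, true), ([], 7, true)]) (by decide +kernel) (by decide +kernel))) _ _ presU)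
theorem leU : U.lsub W253 ≤ (U.lsub W2) := Tab.lsub_le_all (show AllP _ [[5], [13], [15]] from AllP.cons (U.mem_letters (by decide)) (AllP.cons (mem_of_rel (hU.one rel251) (Tab.evA_mem_gz hH (by decide +kernel))) (AllP.cons (mem_of_rel (hU.one rel252) (Tab.evA_mem_gz hH (by decide +kernel))) (AllP.nil))))
theorem reach269 : Reach (U.lsub W253) 1 (Nat.shiftLeft 1 1) := (Reach.base _ 1)
theorem reach272 : Reach (U.lsub W253) 2 0xc := (Reach.grow hU (Reach.base _ 2) gr271)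
theorem reach275 : Reach (U.lsub W253) 4 0x36f0 := (Reach.grow hU (Reach.base _ 4) gr274)
theorem reach279 : Reach (U.lsub W253) 8 M277 := (Reach.grow hU (Reach.base _ 8) gr278)
theorem reach283 : Reach (U.lsub W253) 16 M281 := (Reach.grow hU (Reach.base _ 16) gr282)
theorem reach287 : Reach (U.lsub W253) 28 M285 := (Reach.grow hU (Reach.base _ 28) gr286)
theorem reach291 : Reach (U.lsub W253) 73 M289 := (Reach.grow hU (Reach.base _ 73) gr290)
theorem reach295 : Reach (U.lsub W253) 151 M293 := (Reach.grow hU (Reach.base _ 151) gr294)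
noncomputable def Xu : List Cell := [(1, (Nat.shiftLeft 1 1), 1), (2, 0xc, 2), (4, 0x36f0, 8), (8, M277, 16), (16, M281, 64), (28, M285, 128), (73, M289, 512), (151, M293, 1024)]
theorem Xuk : AllP (CellOk (U.lsub W253) 12) Xu :=
  show AllP _ [(1, (Nat.shiftLeft 1 1), 1), (2, 0xc, 2), (4, 0x36f0, 8), (8, M277, 16), (16, M281, 64), (28, M285, 128), (73, M289, 512), (151, M293, 1024)] from AllP.cons ⟨reach269, sz270⟩ (AllP.cons ⟨reach272, sz273⟩ (AllP.cons ⟨reach275, sz276⟩ (AllP.cons ⟨reach279, sz280⟩ (AllP.cons ⟨reach283, sz284⟩ (AllP.cons ⟨reach287, sz288⟩ (AllP.cons ⟨reach291, sz292⟩ (AllP.cons ⟨reach295, sz296⟩ (AllP.nil))))))))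
theorem Xup : partOk M10 Xu 0 = true := by decide +kernel
set_option synthInstance.maxSize 100000 in
theorem keyXu : ∀ x0 x1 x2 x3 x4 x5 x6 x7 : Fin 2, x0.1 = 1 → ∀ s, s = 1 * x0.1 + (2 * x1.1 + (8 * x2.1 + (16 * x3.1 + (64 * x4.1 + (128 * x5.1 + (512 * x6.1 + (1024 * x7.1 + (0)))))))) → s ∣ 20480 → s = 1 := by
  simp only [forall_eq]; decide +kernel
theorem C1 (K : Subgroup (Equiv.Perm ℕ)) (hK : K ≤ (U.lsub W2)) (hc : 1755 * Nat.card K = Nat.card (U.lsub W2)) :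
    ∃ p ∈ orbS (U.lsub W2) 1, ∀ g ∈ K, g p = p := by
  obtain ⟨h, hh, hQ⟩ := exists_cj Nat.prime_two pU leU hK hc.symm (by norm_num)
  refine fix_of_cj hh ⟨_, self_mem_orbS _ _, ?_⟩
  replace hK := cj_le hK hh
  replace hc : Nat.card (cj h K) = 20480 := by have := cardH; rw [card_cj]; omega
  generalize cj h K = K at hK hc hQ
  exact fix_of_ncard (keyXu ⟨ind (orbS K 1) 1, Nat.lt_succ_of_le (ind_le _ _)⟩ ⟨ind (orbS K 1) 2, Nat.lt_succ_of_le (ind_le _ _)⟩ ⟨ind (orbS K 1) 4, Nat.lt_succ_of_le (ind_le _ _)⟩ ⟨ind (orbS K 1) 8, Nat.lt_succ_of_le (ind_le _ _)⟩ ⟨ind (orbS K 1) 16, Nat.lt_succ_of_le (ind_le _ _)⟩ ⟨ind (orbS K 1) 28, Nat.lt_succ_of_le (ind_le _ _)⟩ ⟨ind (orbS K 1) 73, Nat.lt_succ_of_le (ind_le _ _)⟩ ⟨ind (orbS K 1) 151, Nat.lt_succ_of_le (ind_le _ _)⟩ (ind_one.mpr (self_mem_orbS _ _)) _ (ncard_cells Xuk Xup (orbS_inv hQ _) fun q hq =>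
    orb15e.le (orbS_eq_of_mem (self_mem_orbS _ _) ▸ orbS_mono hK _ hq)) (hc ▸ dvd_card_orb rfl))
theorem conjZ : ∀ u ∈ (U.lsub W2), ∃ s ∈ U.lsub W299, ∃ w, w ∈ RuX.WL ∧
    cj u (U.lsub W297) = cj s (U.lsub (ZW.map (cjw w))) := by
  obtain ⟨ψ, hψ⟩ := Rub.bound.exists_hom (by norm_num) presH RuX.pres cardΓ.symm.dvd
  rw [← eΓ, ← Γ.range_subtype]
  exact hl.conjZ (hl.norm Γ.subtype_injective (BW := RuX.BW) (I := [[[0, 2], [1]], [[0, 0], [1, 1, 3]]]) (W := [[4, 4, 2, 3, 3, 6, 6, 4, 4, 2, 4, 2, 3, 3, 6, 6, 4, 4, 2, 2, 3, 3, 2, 6, 4, 6, 2, 3, 1, 5, 3, 5, 1, 4, 4, 1], [3, 2, 3, 3, 2, 6, 4, 6, 2, 1, 3, 3, 5, 5, 4, 4, 1, 3, 1, 3, 3, 5, 5, 4, 4, 1, 3, 1, 5, 3, 5, 1, 4, 4, 1], [4, 4, 2, 6, 2, 4, 4, 5, 4, 5, 3, 6, 3, 6, 3, 3, 1, 5, 1], [3, 3, 1, 3, 3, 5, 5, 4, 4, 1, 3, 1, 3, 3, 5, 5, 4, 4, 1, 3, 2, 6, 2, 4, 4, 5, 4, 5, 1, 3, 3, 5, 5, 4, 4, 1, 3, 1, 3, 3, 5, 5, 4, 4, 1, 3, 6, 3, 6, 3, 3, 1, 5, 1]]) (by decide +kernel)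 (show AllP _ [[4, 4, 2, 3, 3, 6, 6, 4, 4, 2, 4, 2, 3, 3, 6, 6, 4, 4, 2, 2, 3, 3, 2, 6, 4, 6, 2, 3, 1, 5, 3, 5, 1, 4, 4, 1], [3, 2, 3, 3, 2, 6, 4, 6, 2, 1, 3, 3, 5, 5, 4, 4, 1, 3, 1, 3, 3, 5, 5, 4, 4, 1, 3, 1, 5, 3, 5, 1, 4, 4, 1], [4, 4, 2, 6, 2, 4, 4, 5, 4, 5, 3, 6, 3, 6, 3, 3, 1, 5, 1], [3, 3, 1, 3, 3, 5, 5, 4, 4, 1, 3, 1, 3, 3, 5, 5, 4, 4, 1, 3, 2, 6, 2, 4, 4, 5, 4, 5, 1, 3, 3, 5, 5, 4, 4, 1, 3, 1, 3, 3, 5, 5, 4, 4, 1, 3, 6, 3, 6, 3, 3, 1, 5, 1]] from AllP.cons (hU.one rel300) (AllP.cons (hU.one rel301) (AllP.cons (hU.one rel302) (AllP.cons (hU.one rel303) (AllP.nil))))))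
    (by decide +kernel) (by decide +kernel) (by decide +kernel) (RuX.conj (gsub_lift _ _) cardΓ hψ)
theorem normQ : ∀ s ∈ U.lsub W299, cj s (U.lsub W298) = U.lsub W298 := by
  rw [hl.lsub_eq (SW := RuX.SW) (W := W299) (by decide +kernel), hl.lsub_eq (SW := QW) (W := W298) (by decide +kernel)]
  rintro _ ⟨s, hs, rfl⟩
  exact cj_of_norm (hl.norm Γ.subtype_injective (I := [[[0]], [[1, 1, 1, 1, 1, 1]]]) (W := [[4, 4, 2, 4, 4, 2, 1, 3, 3, 1, 3, 3], [1, 3, 3, 1, 3, 3, 1, 3, 3, 1, 3, 3, 1, 3, 3, 1, 3, 3, 4, 2, 6, 3, 3, 2, 3, 2, 6, 4, 2, 6, 1, 3, 3, 5, 1, 3, 5, 1, 4, 1, 4, 4, 5, 1, 3]]) (by decide +kernel) (show AllP _ [[4, 4, 2, 4, 4, 2, 1, 3, 3, 1, 3, 3], [1, 3, 3, 1, 3, 3, 1, 3, 3, 1, 3, 3, 1, 3, 3, 1, 3, 3, 4, 2, 6, 3, 3, 2, 3, 2, 6, 4, 2, 6, 1, 3, 3, 5, 1, 3, 5, 1, 4, 1, 4, 4, 5, 1, 3]] from AllP.cons (hU.one rel304) (AllP.cons (hU.one rel305) (AllP.nil)))) hs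
theorem pZ : IsPGroup 5 (U.lsub W297) := hl.isPGroup Γ.subtype_injective (QW := ZW) (e := 2) P25.cert.bound_nil (by norm_num) (by decide +kernel)
  (W := [[3, 3, 3, 3, 3], [1, 3, 3, 5, 5, 4, 4, 1, 3, 1, 3, 3, 5, 5, 4, 4, 1, 3, 1, 3, 3, 5, 5, 4, 4, 1, 3, 1, 3, 3, 5, 5, 4, 4, 1, 3, 1, 3, 3, 5, 5, 4, 4, 1, 3, 1, 3, 3, 5, 5, 4, 4, 1, 3, 1, 3, 3, 5, 5, 4, 4, 1, 3, 1, 3, 3, 5, 5, 4, 4, 1, 3, 1, 3, 3, 5, 5, 4, 4, 1, 3, 1, 3, 3, 5, 5, 4, 4, 1, 3], [4, 2, 3, 3, 6, 6, 4, 4, 2, 4, 2, 3, 3, 6, 6, 4, 4, 2, 4, 1, 3, 3, 5, 5, 4, 4, 1, 3, 1, 3, 3, 5, 5, 4, 4, 1, 3, 3]]) (by decide +kernel) (show AllP _ [[3, 3, 3, 3, 3], [1, 3, 3, 5, 5, 4, 4, 1, 3, 1, 3, 3, 5, 5, 4, 4, 1, 3, 1, 3, 3, 5, 5, 4, 4, 1, 3, 1, 3, 3, 5, 5, 4, 4, 1, 3, 1, 3, 3, 5, 5, 4, 4, 1, 3, 1, 3, 3, 5, 5, 4, 4, 1, 3, 1, 3, 3, 5, 5, 4, 4, 1, 3, 1, 3, 3, 5, 5, 4, 4, 1, 3, 1, 3, 3, 5, 5, 4, 4, 1, 3, 1, 3, 3, 5, 5, 4, 4, 1, 3], [4, 2, 3, 3, 6, 6, 4, 4, 2, 4,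 2, 3, 3, 6, 6, 4, 4, 2, 4, 1, 3, 3, 5, 5, 4, 4, 1, 3, 1, 3, 3, 5, 5, 4, 4, 1, 3, 3]] from AllP.cons (hU.one rel306) (AllP.cons (hU.one rel307) (AllP.cons (hU.one rel308) (AllP.nil))))
theorem leZ : U.lsub W297 ≤ (U.lsub W2) := Tab.lsub_le_gz hH (by decide +kernel)
theorem leS : U.lsub W299 ≤ (U.lsub W2) := Tab.lsub_le_gz hH (by decide +kernel)
theorem pQ : IsPGroup 13 (U.lsub W298) := Tab.isPGroup_single (by norm_num) (hU.one rel309) (by decide +kernel)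
theorem leQ : U.lsub W298 ≤ (U.lsub W2) := Tab.lsub_le_gz hH (by decide +kernel)
def Case (w : List ℕ) : Prop := ∀ K ≤ (U.lsub W2), Nat.card K = 15600 → U.lsub (W298 ++ ZW.map (cjw w)) ≤ K →
  ∃ p ∈ orbS (U.lsub W2) 352, ∀ g ∈ K, g p = p
theorem bad {w : List ℕ} {W : List (List ℕ)} (e : (W == W298 ++ ZW.map (cjw w)) = true) (h : Reach (U.lsub W) 1 M10) :
    Case w := fun K hK hc hQ => by
  have h3 := dvd_of_reach hK (beq_iff_eq.mp e ▸ hQ) h orb15e
  rw [orb15, hc] at h3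
  omega
theorem reach312 : Reach (U.lsub W310) 1 M10 := (Reach.grow hU (Reach.base _ 1) gr311)
theorem reach315 : Reach (U.lsub W313) 1 M10 := (Reach.grow hU (Reach.base _ 1) gr314)
theorem reach318 : Reach (U.lsub W316) 1 M10 := (Reach.grow hU (Reach.base _ 1) gr317)
theorem reach321 : Reach (U.lsub W319) 1 M10 := (Reach.grow hU (Reach.base _ 1) gr320)
theorem reach324 : Reach (U.lsub W322) 1 M10 := (Reach.grow hU (Reach.base _ 1) gr323)
theorem reach327 : Reach (U.lsub W325) 1 M10 := (Reach.grow hU (Reach.base _ 1) gr326)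
theorem reach330 : Reach (U.lsub W328) 1 M10 := (Reach.grow hU (Reach.base _ 1) gr329)
theorem reach333 : Reach (U.lsub W331) 1 M10 := (Reach.grow hU (Reach.base _ 1) gr332)
theorem reach336 : Reach (U.lsub W334) 1 M10 := (Reach.grow hU (Reach.base _ 1) gr335)
theorem reach339 : Reach (U.lsub W337) 1 M10 := (Reach.grow hU (Reach.base _ 1) gr338)
theorem reach342 : Reach (U.lsub W340) 1 M10 := (Reach.grow hU (Reach.base _ 1) gr341)
theorem reach345 : Reach (U.lsub W343) 1 M10 := (Reach.grow hU (Reach.base _ 1) gr344)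
theorem reach348 : Reach (U.lsub W346) 1 M10 := (Reach.grow hU (Reach.base _ 1) gr347)
theorem reach351 : Reach (U.lsub W349) 1 M10 := (Reach.grow hU (Reach.base _ 1) gr350)
theorem reach354 : Reach (U.lsub W352) 1 M10 := (Reach.grow hU (Reach.base _ 1) gr353)
theorem reach357 : Reach (U.lsub W355) 1 M10 := (Reach.grow hU (Reach.base _ 1) gr356)
theorem reach360 : Reach (U.lsub W358) 1 M10 := (Reach.grow hU (Reach.base _ 1) gr359)
theorem reach363 : Reach (U.lsub W361) 1 M10 := (Reach.grow hU (Reach.base _ 1) gr362)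
theorem reach366 : Reach (U.lsub W364) 1 M10 := (Reach.grow hU (Reach.base _ 1) gr365)
theorem reach369 : Reach (U.lsub W367) 1 M10 := (Reach.grow hU (Reach.base _ 1) gr368)
theorem reach372 : Reach (U.lsub W370) 1 M10 := (Reach.grow hU (Reach.base _ 1) gr371)
theorem reach375 : Reach (U.lsub W373) 1 M10 := (Reach.grow hU (Reach.base _ 1) gr374)
theorem reach378 : Reach (U.lsub W376) 1 M10 := (Reach.grow hU (Reach.base _ 1) gr377)
theorem reach381 : Reach (U.lsub W379) 1 M10 := (Reach.grow hU (Reach.base _ 1) gr380)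
theorem reach384 : Reach (U.lsub W382) 1 M10 := (Reach.grow hU (Reach.base _ 1) gr383)
theorem reach387 : Reach (U.lsub W385) 1 M10 := (Reach.grow hU (Reach.base _ 1) gr386)
theorem reach390 : Reach (U.lsub W388) 1 M10 := (Reach.grow hU (Reach.base _ 1) gr389)
theorem reach393 : Reach (U.lsub W391) 1 M10 := (Reach.grow hU (Reach.base _ 1) gr392)
theorem reach396 : Reach (U.lsub W394) 1 M10 := (Reach.grow hU (Reach.base _ 1) gr395)
theorem reach399 : Reach (U.lsub W397) 1 M10 := (Reach.grow hU (Reach.base _ 1) gr398)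
theorem reach402 : Reach (U.lsub W400) 1 M10 := (Reach.grow hU (Reach.base _ 1) gr401)
theorem reach405 : Reach (U.lsub W403) 1 M10 := (Reach.grow hU (Reach.base _ 1) gr404)
theorem reach408 : Reach (U.lsub W406) 1 M10 := (Reach.grow hU (Reach.base _ 1) gr407)
theorem reach411 : Reach (U.lsub W409) 1 M10 := (Reach.grow hU (Reach.base _ 1) gr410)
theorem reach414 : Reach (U.lsub W412) 1 M10 := (Reach.grow hU (Reach.base _ 1) gr413)
theorem reach417 : Reach (U.lsub W415) 1 M10 := (Reach.grow hU (Reach.base _ 1) gr416)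
theorem reach420 : Reach (U.lsub W418) 1 M10 := (Reach.grow hU (Reach.base _ 1) gr419)
theorem reach423 : Reach (U.lsub W421) 1 M10 := (Reach.grow hU (Reach.base _ 1) gr422)
theorem reach426 : Reach (U.lsub W424) 1 M10 := (Reach.grow hU (Reach.base _ 1) gr425)
theorem reach429 : Reach (U.lsub W427) 1 M10 := (Reach.grow hU (Reach.base _ 1) gr428)
theorem reach432 : Reach (U.lsub W430) 1 M10 := (Reach.grow hU (Reach.base _ 1) gr431)
theorem reach435 : Reach (U.lsub W433) 1 M10 := (Reach.grow hU (Reach.base _ 1) gr434)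
theorem reach438 : Reach (U.lsub W436) 1 M10 := (Reach.grow hU (Reach.base _ 1) gr437)
theorem reach441 : Reach (U.lsub W439) 1 M10 := (Reach.grow hU (Reach.base _ 1) gr440)
theorem reach444 : Reach (U.lsub W442) 1 M10 := (Reach.grow hU (Reach.base _ 1) gr443)
theorem reach447 : Reach (U.lsub W445) 1 M10 := (Reach.grow hU (Reach.base _ 1) gr446)
theorem reach450 : Reach (U.lsub W448) 1 M10 := (Reach.grow hU (Reach.base _ 1) gr449)
theorem reach453 : Reach (U.lsub W451) 1 M10 := (Reach.grow hU (Reach.base _ 1) gr452)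
theorem reach456 : Reach (U.lsub W454) 1 M10 := (Reach.grow hU (Reach.base _ 1) gr455)
theorem reach459 : Reach (U.lsub W457) 1 M10 := (Reach.grow hU (Reach.base _ 1) gr458)
theorem reach462 : Reach (U.lsub W460) 1 M10 := (Reach.grow hU (Reach.base _ 1) gr461)
theorem reach465 : Reach (U.lsub W463) 1 M10 := (Reach.grow hU (Reach.base _ 1) gr464)
theorem reach468 : Reach (U.lsub W466) 1 M10 := (Reach.grow hU (Reach.base _ 1) gr467)
theorem reach471 : Reach (U.lsub W469) 1 M10 := (Reach.grow hU (Reach.base _ 1) gr470)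
theorem reach474 : Reach (U.lsub W472) 1 M10 := (Reach.grow hU (Reach.base _ 1) gr473)
theorem reach477 : Reach (U.lsub W475) 1 M10 := (Reach.grow hU (Reach.base _ 1) gr476)
theorem reach480 : Reach (U.lsub W478) 1 M10 := (Reach.grow hU (Reach.base _ 1) gr479)
theorem reach483 : Reach (U.lsub W481) 1 M10 := (Reach.grow hU (Reach.base _ 1) gr482)
theorem reach486 : Reach (U.lsub W484) 1 M10 := (Reach.grow hU (Reach.base _ 1) gr485)
theorem reach489 : Reach (U.lsub W487) 1 M10 := (Reach.grow hU (Reach.base _ 1) gr488)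
theorem reach492 : Reach (U.lsub W490) 1 M10 := (Reach.grow hU (Reach.base _ 1) gr491)
theorem reach495 : Reach (U.lsub W493) 1 M10 := (Reach.grow hU (Reach.base _ 1) gr494)
theorem reach498 : Reach (U.lsub W496) 1 M10 := (Reach.grow hU (Reach.base _ 1) gr497)
theorem reach501 : Reach (U.lsub W499) 1 M10 := (Reach.grow hU (Reach.base _ 1) gr500)
theorem reach504 : Reach (U.lsub W502) 1 M10 := (Reach.grow hU (Reach.base _ 1) gr503)
theorem reach507 : Reach (U.lsub W505) 1 M10 := (Reach.grow hU (Reach.base _ 1) gr506)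
theorem reach510 : Reach (U.lsub W508) 1 M10 := (Reach.grow hU (Reach.base _ 1) gr509)
theorem reach513 : Reach (U.lsub W511) 1 M10 := (Reach.grow hU (Reach.base _ 1) gr512)
theorem reach516 : Reach (U.lsub W514) 1 M10 := (Reach.grow hU (Reach.base _ 1) gr515)
theorem reach519 : Reach (U.lsub W517) 1 M10 := (Reach.grow hU (Reach.base _ 1) gr518)
theorem reach522 : Reach (U.lsub W520) 1 M10 := (Reach.grow hU (Reach.base _ 1) gr521)
theorem reach525 : Reach (U.lsub W523) 1 M10 := (Reach.grow hU (Reach.base _ 1) gr524)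
theorem reach528 : Reach (U.lsub W526) 1 M10 := (Reach.grow hU (Reach.base _ 1) gr527)
theorem reach531 : Reach (U.lsub W529) 1 M10 := (Reach.grow hU (Reach.base _ 1) gr530)
theorem reach534 : Reach (U.lsub W532) 1 M10 := (Reach.grow hU (Reach.base _ 1) gr533)
theorem reach537 : Reach (U.lsub W535) 1 M10 := (Reach.grow hU (Reach.base _ 1) gr536)
theorem reach540 : Reach (U.lsub W538) 1 M10 := (Reach.grow hU (Reach.base _ 1) gr539)
theorem reach543 : Reach (U.lsub W541) 1 M10 := (Reach.grow hU (Reach.base _ 1) gr542)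
theorem reach546 : Reach (U.lsub W544) 1 M10 := (Reach.grow hU (Reach.base _ 1) gr545)
theorem reach549 : Reach (U.lsub W547) 1 M10 := (Reach.grow hU (Reach.base _ 1) gr548)
theorem reach552 : Reach (U.lsub W550) 1 M10 := (Reach.grow hU (Reach.base _ 1) gr551)
theorem reach555 : Reach (U.lsub W553) 1 M10 := (Reach.grow hU (Reach.base _ 1) gr554)
theorem reach558 : Reach (U.lsub W556) 1 M10 := (Reach.grow hU (Reach.base _ 1) gr557)
theorem reach561 : Reach (U.lsub W559) 1 M10 := (Reach.grow hU (Reach.base _ 1) gr560)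
theorem reach564 : Reach (U.lsub W562) 1 M10 := (Reach.grow hU (Reach.base _ 1) gr563)
theorem reach567 : Reach (U.lsub W565) 1 M10 := (Reach.grow hU (Reach.base _ 1) gr566)
theorem reach570 : Reach (U.lsub W568) 1 M10 := (Reach.grow hU (Reach.base _ 1) gr569)
theorem reach573 : Reach (U.lsub W571) 1 M10 := (Reach.grow hU (Reach.base _ 1) gr572)
theorem reach576 : Reach (U.lsub W574) 1 M10 := (Reach.grow hU (Reach.base _ 1) gr575)
theorem reach579 : Reach (U.lsub W577) 1 M10 := (Reach.grow hU (Reach.base _ 1) gr578)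
theorem reach582 : Reach (U.lsub W580) 1 M10 := (Reach.grow hU (Reach.base _ 1) gr581)
theorem reach585 : Reach (U.lsub W583) 1 M10 := (Reach.grow hU (Reach.base _ 1) gr584)
theorem reach588 : Reach (U.lsub W586) 1 M10 := (Reach.grow hU (Reach.base _ 1) gr587)
theorem reach591 : Reach (U.lsub W589) 1 M10 := (Reach.grow hU (Reach.base _ 1) gr590)
theorem reach594 : Reach (U.lsub W592) 1 M10 := (Reach.grow hU (Reach.base _ 1) gr593)
theorem reach597 : Reach (U.lsub W595) 1 M10 := (Reach.grow hU (Reach.base _ 1) gr596)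
theorem reach600 : Reach (U.lsub W598) 1 M10 := (Reach.grow hU (Reach.base _ 1) gr599)
theorem reach603 : Reach (U.lsub W601) 1 M10 := (Reach.grow hU (Reach.base _ 1) gr602)
theorem reach605 : Reach (U.lsub W604) 3163 (Nat.shiftLeft 1 3163) := (Reach.base _ 3163)
theorem reach609 : Reach (U.lsub W604) 676 M607 := (Reach.grow hU (Reach.base _ 676) gr608)
theorem reach613 : Reach (U.lsub W604) 491 M611 := (Reach.grow hU (Reach.base _ 491) gr612)
theorem reach617 : Reach (U.lsub W604) 791 M615 := (Reach.grow hU (Reach.base _ 791) gr616)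
theorem reach621 : Reach (U.lsub W604) 383 M619 := (Reach.grow hU (Reach.base _ 383) gr620)
theorem reach625 : Reach (U.lsub W604) 620 M623 := (Reach.grow hU (Reach.base _ 620) gr624)
theorem reach629 : Reach (U.lsub W604) 352 M627 := (Reach.grow hU (Reach.base _ 352) gr628)
noncomputable def Xg : List Cell := [(3163, (Nat.shiftLeft 1 3163), 1), (676, M607, 78), (491, M611, 300), (791, M615, 300), (383, M619, 325), (620, M623, 325), (352, M627, 975)]
theorem Xgk : AllP (CellOk (U.lsub W604) 12) Xg :=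
  show AllP _ [(3163, (Nat.shiftLeft 1 3163), 1), (676, M607, 78), (491, M611, 300), (791, M615, 300), (383, M619, 325), (620, M623, 325), (352, M627, 975)] from AllP.cons ⟨reach605, sz606⟩ (AllP.cons ⟨reach609, sz610⟩ (AllP.cons ⟨reach613, sz614⟩ (AllP.cons ⟨reach617, sz618⟩ (AllP.cons ⟨reach621, sz622⟩ (AllP.cons ⟨reach625, sz626⟩ (AllP.cons ⟨reach629, sz630⟩ (AllP.nil)))))))
theorem Xgp : partOk M16 Xg 0 = true := by decide +kernel
set_option synthInstance.maxSize 100000 in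
theorem keyXg : ∀ x0 x1 x2 x3 x4 x5 x6 : Fin 2, x0.1 = 1 → ∀ s, s = 1 * x0.1 + (78 * x1.1 + (300 * x2.1 + (300 * x3.1 + (325 * x4.1 + (325 * x5.1 + (975 * x6.1 + (0))))))) → s ∣ 15600 → s = 1 := by
  simp only [forall_eq]; decide +kernel
theorem good : Case [5, 0, 2, 2, 4] := fun K hK hc hQ => by
  rw [← beq_iff_eq.mp (show (W604 == W298 ++ ZW.map (cjw [5, 0, 2, 2, 4])) = true by decide +kernel)] at hQ
  have hp : 3163 ∈ orbS (U.lsub W2) 352 := orb21e.ge (by decide +kernel : Nat.testBit M16 3163 = true)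
  exact ⟨_, hp, fix_of_ncard (keyXg ⟨ind (orbS K 3163) 3163, Nat.lt_succ_of_le (ind_le _ _)⟩ ⟨ind (orbS K 3163) 676, Nat.lt_succ_of_le (ind_le _ _)⟩ ⟨ind (orbS K 3163) 491, Nat.lt_succ_of_le (ind_le _ _)⟩ ⟨ind (orbS K 3163) 791, Nat.lt_succ_of_le (ind_le _ _)⟩ ⟨ind (orbS K 3163) 383, Nat.lt_succ_of_le (ind_le _ _)⟩ ⟨ind (orbS K 3163) 620, Nat.lt_succ_of_le (ind_le _ _)⟩ ⟨ind (orbS K 3163) 352, Nat.lt_succ_of_le (ind_le _ _)⟩ (ind_one.mpr (self_mem_orbS _ _)) _ (ncard_cells Xgk Xgp (orbS_inv hQ _) fun q hq =>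
    orb21e.le (orbS_eq_of_mem hp ▸ orbS_mono hK _ hq)) (hc ▸ dvd_card_orb rfl))⟩
theorem reach633 : Reach (U.lsub W631) 1 M10 := (Reach.grow hU (Reach.base _ 1) gr632)
theorem reach636 : Reach (U.lsub W634) 1 M10 := (Reach.grow hU (Reach.base _ 1) gr635)
theorem reach639 : Reach (U.lsub W637) 1 M10 := (Reach.grow hU (Reach.base _ 1) gr638)
theorem cases : AllP Case RuX.WL :=
  show AllP _ [[], [4], [2, 0], [4, 0], [0, 4], [2, 4], [0, 2, 0], [4, 2, 0], [0, 4, 0], [2, 4, 0], [4, 4, 0], [2, 0, 4], [3, 4], [0, 2, 4], [0, 4, 4], [5, 3, 4], [5], [2, 0, 2, 0], [3, 0, 2, 0], [3, 0], [2, 4, 2, 0], [2, 5], [2, 0, 4, 0], [0, 2, 4, 0], [5, 0, 3, 0], [2, 4, 4, 0], [3, 0, 3, 0], [4, 4, 0, 4], [3, 4, 4, 0], [4, 3, 5], [4, 4, 2, 4], [4, 4, 3, 0], [0, 5, 3, 4], [0, 5], [3, 4, 0], [0, 4, 0, 2, 0], [5, 2, 5, 0], [4, 3, 0], [3, 0, 4, 4], [4, 3, 3, 0], [3, 5, 0, 2, 0], [4, 0, 3, 0], [0, 2, 0, 4, 0], [5, 3, 0], [5, 0, 5],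 [4, 3, 4], [3, 0, 3, 4], [5, 2, 5, 3, 0], [4, 0, 3, 3, 0], [3, 5, 0, 4], [0, 5, 0], [2, 5, 0], [5, 2, 5], [3, 4, 0, 5], [2, 0, 5], [2, 5, 2, 4], [5, 3, 4, 0, 4], [5, 0, 4], [0, 2, 5], [4, 2, 5, 0], [3, 0, 2, 4], [3, 0, 5], [2, 0, 2, 5, 0], [2, 0, 5, 0], [3, 4, 3, 0], [4, 0, 5], [4, 2, 5], [4, 2, 5, 0, 4], [5, 0, 3, 5], [3, 0, 5, 2, 0], [2, 4, 3, 3, 0], [3, 0, 3, 5], [5, 3, 5, 0], [3, 5, 0], [4, 0, 3, 5], [0, 5, 2, 0], [2, 5, 0, 5], [4, 3, 4, 0, 4], [0, 2, 4, 3, 0], [3, 4, 4, 2, 0], [5, 2, 2, 4], [5, 3, 4, 0, 3, 0], [3, 0, 3, 5, 0], [0, 2, 0, 5, 3, 0], [3, 0, 5, 0], [3, 4, 3, 3, 4], [4, 0, 2, 5], [3, 5, 0, 3, 0], [2, 0, 3, 0, 2, 0], [0, 5, 3, 0, 2, 0], [0, 5, 2, 0, 3, 5], [3, 0, 2, 2, 0], [3, 0, 3, 3, 4], [0, 4, 3, 0], [2, 4, 3, 0], [5, 3, 0, 4], [2, 5, 0, 3, 0], [5, 2, 5, 2, 0], [5, 0, 2, 2, 4], [3, 4, 0, 4, 4, 0], [0, 2, 5, 0, 4], [3, 5, 3, 0, 5]] from AllP.cons (bad (by decide +kernel) reach312) (AllP.cons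 (bad (by decide +kernel) reach315) (AllP.cons (bad (by decide +kernel) reach318) (AllP.cons (bad (by decide +kernel) reach321) (AllP.cons (bad (by decide +kernel) reach324) (AllP.cons (bad (by decide +kernel) reach327) (AllP.cons (bad (by decide +kernel) reach330) (AllP.cons (bad (by decide +kernel) reach333) (AllP.cons (bad (by decide +kernel) reach336) (AllP.cons (bad (by decide +kernel) reach339) (AllP.cons (bad (by decide +kernel) reach342) (AllP.cons (bad (by decide +kernel) reach345) (AllP.cons (bad (by decide +kernel) reach348) (AllP.cons (bad (by decide +kernel) reach351) (AllP.cons (bad (by decide +kernel) reach354) (AllP.cons (bad (by decide +kernel) reach357) (AllP.cons (bad (by decide +kernel) reach360) (AllP.cons (bad (by decide +kernel) reach363) (AllP.cons (bad (by decide +kernel) reach366) (AllP.cons (bad (by decide +kernel) reach369) (AllP.cons (bad (by decide +kernel) reach372) (AllP.cons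 (bad (by decide +kernel) reach375) (AllP.cons (bad (by decide +kernel) reach378) (AllP.cons (bad (by decide +kernel) reach381) (AllP.cons (bad (by decide +kernel) reach384) (AllP.cons (bad (by decide +kernel) reach387) (AllP.cons (bad (by decide +kernel) reach390) (AllP.cons (bad (by decide +kernel) reach393) (AllP.cons (bad (by decide +kernel) reach396) (AllP.cons (bad (by decide +kernel) reach399) (AllP.cons (bad (by decide +kernel) reach402) (AllP.cons (bad (by decide +kernel) reach405) (AllP.cons (bad (by decide +kernel) reach408) (AllP.cons (bad (by decide +kernel) reach411) (AllP.cons (bad (by decide +kernel) reach414) (AllP.cons (bad (by decide +kernel) reach417) (AllP.cons (bad (by decide +kernel) reach420) (AllP.cons (bad (by decide +kernel) reach423) (AllP.cons (bad (by decide +kernel) reach426) (AllP.cons (bad (by decide +kernel) reach429) (AllP.cons (bad (by decide +kernel) reach432) (AllP.cons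 (bad (by decide +kernel) reach435) (AllP.cons (bad (by decide +kernel) reach438) (AllP.cons (bad (by decide +kernel) reach441) (AllP.cons (bad (by decide +kernel) reach444) (AllP.cons (bad (by decide +kernel) reach447) (AllP.cons (bad (by decide +kernel) reach450) (AllP.cons (bad (by decide +kernel) reach453) (AllP.cons (bad (by decide +kernel) reach456) (AllP.cons (bad (by decide +kernel) reach459) (AllP.cons (bad (by decide +kernel) reach462) (AllP.cons (bad (by decide +kernel) reach465) (AllP.cons (bad (by decide +kernel) reach468) (AllP.cons (bad (by decide +kernel) reach471) (AllP.cons (bad (by decide +kernel) reach474) (AllP.cons (bad (by decide +kernel) reach477) (AllP.cons (bad (by decide +kernel) reach480) (AllP.cons (bad (by decide +kernel) reach483) (AllP.cons (bad (by decide +kernel) reach486) (AllP.cons (bad (by decide +kernel) reach489) (AllP.cons (bad (by decide +kernel) reach492) (AllP.cons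 (bad (by decide +kernel) reach495) (AllP.cons (bad (by decide +kernel) reach498) (AllP.cons (bad (by decide +kernel) reach501) (AllP.cons (bad (by decide +kernel) reach504) (AllP.cons (bad (by decide +kernel) reach507) (AllP.cons (bad (by decide +kernel) reach510) (AllP.cons (bad (by decide +kernel) reach513) (AllP.cons (bad (by decide +kernel) reach516) (AllP.cons (bad (by decide +kernel) reach519) (AllP.cons (bad (by decide +kernel) reach522) (AllP.cons (bad (by decide +kernel) reach525) (AllP.cons (bad (by decide +kernel) reach528) (AllP.cons (bad (by decide +kernel) reach531) (AllP.cons (bad (by decide +kernel) reach534) (AllP.cons (bad (by decide +kernel) reach537) (AllP.cons (bad (by decide +kernel) reach540) (AllP.cons (bad (by decide +kernel) reach543) (AllP.cons (bad (by decide +kernel) reach546) (AllP.cons (bad (by decide +kernel) reach549) (AllP.cons (bad (by decide +kernel) reach552) (AllP.cons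 (bad (by decide +kernel) reach555) (AllP.cons (bad (by decide +kernel) reach558) (AllP.cons (bad (by decide +kernel) reach561) (AllP.cons (bad (by decide +kernel) reach564) (AllP.cons (bad (by decide +kernel) reach567) (AllP.cons (bad (by decide +kernel) reach570) (AllP.cons (bad (by decide +kernel) reach573) (AllP.cons (bad (by decide +kernel) reach576) (AllP.cons (bad (by decide +kernel) reach579) (AllP.cons (bad (by decide +kernel) reach582) (AllP.cons (bad (by decide +kernel) reach585) (AllP.cons (bad (by decide +kernel) reach588) (AllP.cons (bad (by decide +kernel) reach591) (AllP.cons (bad (by decide +kernel) reach594) (AllP.cons (bad (by decide +kernel) reach597) (AllP.cons (bad (by decide +kernel) reach600) (AllP.cons (bad (by decide +kernel) reach603) (AllP.cons good (AllP.cons (bad (by decide +kernel) reach633) (AllP.cons (bad (by decide +kernel) reach636) (AllP.cons (bad (by decide +kernel)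 reach639) (AllP.nil))))))))))))))))))))))))))))))))))))))))))))))))))))))))))))))))))))))))))))))))))))))))))))))))))))))
theorem C2 (K : Subgroup (Equiv.Perm ℕ)) (hK : K ≤ (U.lsub W2)) (hc : 2304 * Nat.card K = Nat.card (U.lsub W2)) :
    ∃ p ∈ orbS (U.lsub W2) 352, ∀ g ∈ K, g p = p := by
  obtain ⟨h, hh, hQ⟩ := exists_cj (by norm_num) pQ leQ hK hc.symm (by norm_num)
  refine fix_of_cj hh ?_
  replace hK := cj_le hK hh
  rw [← card_cj h] at hc
  generalize cj h K = K at hK hc hQ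
  obtain ⟨h, hh, hZ⟩ := exists_cj (by norm_num) pZ leZ hK hc.symm (by norm_num)
  obtain ⟨s, hs, w, hw, e⟩ := conjZ _ (inv_mem hh)
  have h1 := inv_mem (leS hs)
  exact fix_of_cj h1 (cases.forall w hw _ (cj_le hK h1) (by have := cardH; rw [card_cj]; omega)
    (Tab.lsub_app (le_cj_inv ((normQ s hs).le.trans hQ)) (le_cj_inv (e ▸ cj_inv_le hZ))))
theorem recog {G : Subgroup (Equiv.Perm ℕ)} {b c : ℕ} (h : Rk3 G 4060 b c 1755 2304)
    (e : StL G [0] ≃* Rub.P) : Nonempty (G ≃* P) := by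
  obtain ⟨e4⟩ := isoH
  rw [P, eG]
  exact h.recog rk (e.trans (e4.trans (MulEquiv.subgroupCongr (eΓ.trans st.symm))))
    (st ▸ C1) (fun K h1 h2 _ => (st ▸ C2) K h1 h2) (by norm_num) graph
    (autb.trans (by rw [← eG, cardP]; norm_num)) (eG ▸ perfectP)

end Cfsg.Agent.Spor.Rua.R
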